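import Mathlib
import Cfsg.Prelude.Def_OddOrderLocal
import Cfsg.Agent.OddOrderLocal.Rank
import Cfsg.Agent.OddOrderLocal.RankBasics
import Cfsg.Agent.OddOrderLocal.MinSimple

/-!
Common setting for the proof of B & G Lemma 9.5 (statement S1402).
-/

set_option autoImplicit false

namespace Cfsg.Agent.OddOrderLocal.BG95.Basic

universe u

variable {G : Type u} [Group G]

/-- `O_q(M)` for a subgroup `M` of `G`, as a subgroup of `G`. -/
def opOf (q : ℕ) (M : Subgroup G) : Subgroup G := (Cfsg.pCore q ↥M).map M.subtype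

theorem opOf_def (q : ℕ) (M : Subgroup G) : opOf q M = (Cfsg.pCore q ↥M).map M.subtype := rfl

/-- The situation of a counterexample to B & G Lemma 9.5. -/
structure Setup [Finite G] (p : ℕ) (P : Sylow p G) (A : Subgroup G) : Prop where
  hG : Cfsg.IsMinSimpleOddOrder G
  hA : Cfsg.IsSCN (P : Subgroup G) A
  hA3 : ¬ Cfsg.PRankLE p 2 ↥A
  hnU : ¬ Cfsg.InUniqueMaximal A

/-- Every elementary abelian `s`-subgroup of order at most `s ^ 2` of the `s`-group `R` lies in an elementary
abelian subgroup of order `s ^ 3` of its centralizer in `R`. -/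
def NonNarrow (s : ℕ) (R : Subgroup G) : Prop :=
  ∀ U : Subgroup G, U ≤ R → Cfsg.IsElementaryAbelian s U → Nat.card U ≤ s ^ 2 →
    ¬ Cfsg.PRankLE s 2 ↥(R ⊓ Subgroup.centralizer (U : Set G))

theorem NonNarrow.not_pRankLE_self {s : ℕ} [hs : Fact s.Prime] {R : Subgroup G}
    (h : NonNarrow s R) : ¬ Cfsg.PRankLE s 2 ↥R := by
  have h1 := h ⊥ bot_le (Cfsg.Agent.OddOrderLocal.Rank.elemAb_bot) (by
    rw [Subgroup.card_bot]; exact Nat.one_le_pow _ _ hs.out.pos)
  exact fun h2 => h1 (Cfsg.Agent.OddOrderLocal.Rank.pRankLE_mono inf_le_left h2)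

end Cfsg.Agent.OddOrderLocal.BG95.Basic
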