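import Mathlib
import Cfsg.Prelude.Def_OddOrderLocal
import Cfsg.Agent.Lib.Cores
import Cfsg.Agent.OddOrderLocal.Rank
import Cfsg.Agent.OddOrderLocal.MinSimple
import Cfsg.Agent.OddOrderLocal.MinSimpleBasic
import Cfsg.Agent.OddOrderLocal.Narrow
import Cfsg.Agent.OddOrderLocal.BG95.Basic
import Cfsg.Agent.S1396
import Cfsg.Agent.S1399
import Cfsg.Agent.S1400
import Cfsg.Agent.S1401

/-!
Basic consequences of the setting of B & G Lemma 9.5 (statement S1402).
-/

set_option autoImplicit false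

namespace Cfsg.Agent.OddOrderLocal.BG95.Setup

open Cfsg.Agent.OddOrderLocal.BG95.Basic
open Cfsg.Agent.OddOrderLocal

universe u

variable {G : Type u} [Group G] [Finite G]

/-- Basic consequences of the setting. -/
theorem basic {p : ℕ} [Fact p.Prime] {P : Sylow p G} {A : Subgroup G} (S : Setup p P A) :
    IsMulCommutative A ∧ IsPGroup p A ∧ A ≤ (P : Subgroup G) ∧ A ≠ ⊥ ∧ p ≠ 2 ∧ p ∣ Nat.card G ∧
      Cfsg.TransitivityHypothesis A := by
  obtain ⟨hG, ⟨hAP, hPN, hCA⟩, hA3, hnU⟩ := S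
  have hAC : A ≤ Subgroup.centralizer (A : Set G) := by
    intro x hx
    rw [← hCA] at hx
    exact hx.2
  have hcomm : IsMulCommutative A := ⟨⟨fun a b => Subtype.ext
    (Subgroup.mem_centralizer_iff.mp (hAC b.2) a a.2)⟩⟩
  have hpA : IsPGroup p A := P.isPGroup'.to_le hAP
  have hA1 : A ≠ ⊥ := by
    rintro rfl
    apply hA3
    rw [Rank.pRankLE_iff]
    intro B hB _
    rw [le_bot_iff.mp hB, Subgroup.card_bot]
    exact Nat.one_le_pow _ _ (Fact.out : p.Prime).pos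
  have hdvd : p ∣ Nat.card A := Rank.dvd_card_of_not_pRankLE hA3
  have hp2 : p ≠ 2 := MinSimple.ne_two_of_dvd hG hdvd
  have hpG : p ∣ Nat.card G := hdvd.trans (Subgroup.card_subgroup_dvd_card A)
  refine ⟨hcomm, hpA, hAP, hA1, hp2, hpG, ?_⟩
  exact Cfsg.Agent.S1396.result hG p hpG A hpA hcomm (Or.inr ⟨P, ⟨hAP, hPN, hCA⟩, fun h =>
    hA3 (Rank.pRankLE_le (by norm_num) (Fact.out : p.Prime).pos h)⟩)

/-- No uniqueness subgroup commutes with a noncyclic subgroup of `A`. -/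
theorem no_commute {p : ℕ} [Fact p.Prime] {P : Sylow p G} {A : Subgroup G} (S : Setup p P A)
    {L B : Subgroup G} (hL : Cfsg.InUniqueMaximal L) (hBA : B ≤ A) (hB : ¬ IsCyclic B) :
    ¬ B ≤ Subgroup.centralizer (L : Set G) := by
  intro hBL
  obtain ⟨hcomm, hpA, hAP, hA1, hp2, hpG, hT⟩ := basic S
  have hBr : ¬ Cfsg.RankLE 1 ↥B := by
    apply Rank.not_rankLE_of_not_pRankLE (Fact.out : p.Prime)
    intro h
    exact hB (Narrow.isCyclic_of_pRankLE_one hp2 (hpA.to_le hBA) h)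
  have h1 := Cfsg.Agent.S1399.result S.hG L B hL hBL hBr
  apply S.hnU
  exact MinSimple.inUniqueMaximal_mono h1 hBA (MinSimpleBasic.ne_top_of_isPGroup S.hG hpA)

theorem opOf_le_fittingOf (q : ℕ) [Fact q.Prime] (M : Subgroup G) :
    opOf q M ≤ Cfsg.fittingOf M :=
  Subgroup.map_mono (Cfsg.Agent.Lib.Cores.pCore_le_fittingSubgroup q)

/-- If `O_q(M)` has rank at least three for some maximal subgroup `M`, then `q`-subgroups of rank at least three and
noncyclic `q`-subgroups with centralizer of `q`-rank at least three are uniqueness subgroups. -/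
theorem unique_of_opOf {q : ℕ} [Fact q.Prime] (hG : Cfsg.IsMinSimpleOddOrder G) {M : Subgroup G}
    (hM : IsCoatom M) (hq3 : ¬ Cfsg.PRankLE q 2 ↥(opOf q M)) :
    (∀ R : Subgroup G, IsPGroup q R → ¬ Cfsg.PRankLE q 2 ↥R → Cfsg.InUniqueMaximal R) ∧
    (∀ U : Subgroup G, IsPGroup q U → ¬ IsCyclic U →
      ¬ Cfsg.PRankLE q 2 ↥(Subgroup.centralizer (U : Set G)) → Cfsg.InUniqueMaximal U) := by
  have hF : ¬ Cfsg.PRankLE q 2 ↥(Cfsg.fittingOf M) := fun h =>
    hq3 (Rank.pRankLE_mono (opOf_le_fittingOf q M) h)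
  have key : ∀ E : Subgroup G, Cfsg.IsElementaryAbelian q E → Nat.card E = q ^ (2 + 1) →
      Cfsg.InUniqueMaximal E := by
    intro E hE hEc
    exact Cfsg.Agent.S1401.result hG M hM q hF E (Rank.elemAb_isPGroup hE) hE.1
      (Rank.not_pRankLE_of_elemAb le_rfl hE (by
        rw [hEc]; exact Nat.pow_lt_pow_right (Fact.out : q.Prime).one_lt (by norm_num)))
  refine ⟨fun R hR hR3 => ?_, fun U hU hUc hU3 => ?_⟩
  · obtain ⟨E, hER, hE, hEc⟩ := Rank.exists_elemAb_of_not_pRankLE hR3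
    exact MinSimple.inUniqueMaximal_mono (key E hE hEc) hER
      (MinSimpleBasic.ne_top_of_isPGroup hG hR)
  · obtain ⟨E, hEQ, hE, hEc⟩ := Rank.exists_elemAb_of_not_pRankLE hq3
    exact Cfsg.Agent.S1400.result hG q E U (Rank.elemAb_isPGroup hE) hE.1
      (Rank.not_pRankLE_of_elemAb le_rfl hE (by
        rw [hEc]; exact Nat.pow_lt_pow_right (Fact.out : q.Prime).one_lt (by norm_num)))
      (key E hE hEc) hU hUc hU3

end Cfsg.Agent.OddOrderLocal.BG95.Setup
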