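import Mathlib
import Cfsg.Prelude.Def_OddOrderLocal
import Cfsg.Agent.OddOrderLocal.RankTwoAction

/-!
Non-faithful version of S1449: a solvable group `N` of odd order normalizing a `q`-group `R` of rank
at most two (`q` odd): every `q'`-subgroup (in particular every `p`-subgroup, `p ≠ q`) of the derived
subgroup of `N` centralizes `R`.
-/

set_option autoImplicit false

namespace Cfsg.Agent.OddOrderLocal.BG95.RankTwoAct

universe u

variable {G : Type u} [Group G] [Finite G]

/-- Elements of `[N, N]` of order prime to `q` centralize the `q`-group `R` of rank at most `2`. -/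
theorem mem_centralizer_of_mem_commutator {q : ℕ} [Fact q.Prime] (hq2 : q ≠ 2) {R N : Subgroup G}
    (hodd : Odd (Nat.card N)) (hR : IsPGroup q R) (hr : Cfsg.PRankLE q 2 ↥R)
    (hs : Group.IsSolvable N) (hN : N ≤ Subgroup.normalizer (R : Set G)) {x : G}
    (hx : x ∈ ⁅N, N⁆) (ho : (orderOf x).Coprime q) : x ∈ Subgroup.centralizer (R : Set G) := by
  have hle : ⁅N, N⁆ = (commutator N).map N.subtype := by
    rw [commutator_def, Subgroup.map_commutator, ← MonoidHom.range_eq_map, Subgroup.range_subtype]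
  rw [hle] at hx
  obtain ⟨y, hy, rfl⟩ := hx
  let φ : N →* MulAut R := (R.normalizerMonoidHom).comp (Subgroup.inclusion hN)
  have ho' : (orderOf y).Coprime q := by
    rwa [← orderOf_injective N.subtype N.subtype_injective y]
  have h := Cfsg.Agent.OddOrderLocal.RankTwoAction.map_eq_one_of_mem_commutator hs hodd hq2 hR hr φ
    hy ho'
  rw [Subgroup.mem_centralizer_iff]
  intro r hr
  have h2 : φ y ⟨r, hr⟩ = ⟨r, hr⟩ := by rw [h]; rfl
  have h3 : (y : G) * r * (y : G)⁻¹ = r := congrArg Subtype.val h2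
  rw [mul_inv_eq_iff_eq_mul] at h3
  exact h3.symm

/-- `X ≤ [N, N]` a `p`-group, `R` a `q`-group of rank at most `2` normalized by the solvable group
`N` of odd order, `q ≠ p`, `q` odd: `X` centralizes `R`. -/
theorem le_centralizer {p q : ℕ} [Fact p.Prime] [Fact q.Prime] (hqp : q ≠ p) (hq2 : q ≠ 2)
    {R N X : Subgroup G} (hodd : Odd (Nat.card N)) (hR : IsPGroup q R)
    (hr : Cfsg.PRankLE q 2 ↥R) (hs : Group.IsSolvable N) (hN : N ≤ Subgroup.normalizer (R : Set G))
    (hX : X ≤ ⁅N, N⁆) (hXp : IsPGroup p X) : X ≤ Subgroup.centralizer (R : Set G) := by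
  intro x hx
  refine mem_centralizer_of_mem_commutator hq2 hodd hR hr hs hN (hX hx) ?_
  obtain ⟨k, hk⟩ := hXp ⟨x, hx⟩
  have hk' : x ^ p ^ k = 1 := congrArg Subtype.val hk
  refine Nat.Coprime.coprime_dvd_left (orderOf_dvd_of_pow_eq_one hk') ?_
  exact Nat.Coprime.pow_left k ((Nat.coprime_primes Fact.out Fact.out).mpr hqp.symm)

/-- A `p`-group `B` acts on a `q`-group `R` of rank at most two (`q` odd, `q ≠ p`)... the derived
subgroup version for `N`: the group `[N, N]` modulo `C(R)` is a `q`-group. -/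
theorem isPGroup_commutator_mod {q : ℕ} [Fact q.Prime] (hq2 : q ≠ 2) {R N : Subgroup G}
    (hodd : Odd (Nat.card N)) (hR : IsPGroup q R) (hr : Cfsg.PRankLE q 2 ↥R)
    (hs : Group.IsSolvable N) (hN : N ≤ Subgroup.normalizer (R : Set G)) {x : G}
    (hx : x ∈ ⁅N, N⁆) : ∃ k : ℕ, x ^ q ^ k ∈ Subgroup.centralizer (R : Set G) := by
  have hq : q.Prime := Fact.out
  obtain ⟨k, m, hm, hkm⟩ := Nat.exists_eq_pow_mul_and_not_dvd
    (n := orderOf x) (orderOf_pos x).ne' q hq.ne_one
  refine ⟨k, mem_centralizer_of_mem_commutator hq2 hodd hR hr hs hN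
    (Subgroup.pow_mem _ hx _) ?_⟩
  have h1 : (x ^ q ^ k) ^ m = 1 := by
    rw [← pow_mul, ← hkm, pow_orderOf_eq_one]
  exact Nat.Coprime.coprime_dvd_left (orderOf_dvd_of_pow_eq_one h1)
    ((Nat.Prime.coprime_iff_not_dvd hq).mpr hm).symm

end Cfsg.Agent.OddOrderLocal.BG95.RankTwoAct
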