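import Mathlib
import Cfsg.Prelude.Def_OddOrderLocal
import Cfsg.Agent.Lib.Cores
import Cfsg.Agent.Lib.CoprimeHyperplane
import Cfsg.Agent.Lib.BenderMaximal
import Cfsg.Agent.OddOrderLocal.Rank
import Cfsg.Agent.OddOrderLocal.MinSimple
import Cfsg.Agent.OddOrderLocal.MinSimpleBasic
import Cfsg.Agent.OddOrderLocal.Transitivity
import Cfsg.Agent.OddOrderLocal.BG95.Basic
import Cfsg.Agent.OddOrderLocal.BG95.Setup
import Cfsg.Agent.OddOrderLocal.BG95.Burnside
import Cfsg.Agent.OddOrderLocal.BG95.CaseTwo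
import Cfsg.Agent.OddOrderLocal.BG95.RankTwoAct
import Cfsg.Agent.S1393
import Cfsg.Agent.S1395
import Cfsg.Agent.S1398
import Cfsg.Agent.S1401

/-!
Step 1 of the proof of B & G Lemma 9.5 (statement S1402): in a counterexample every maximal subgroup
over `A` has Fitting subgroup of rank at most two.
-/

set_option autoImplicit false
set_option linter.unusedSectionVars false

namespace Cfsg.Agent.OddOrderLocal.BG95.StepOne

open Cfsg.Agent.OddOrderLocal
open Cfsg.Agent.OddOrderLocal.BG95.Basic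
open Cfsg.Agent.OddOrderLocal.BG95.Setup
open Cfsg.Agent.OddOrderLocal.Transitivity
open Cfsg.Agent.OddOrderLocal.PiCoreOf
open scoped commutatorElement

universe u

variable {G : Type u} [Group G] [Finite G]

section

variable {p : ℕ} [Fact p.Prime] {P : Sylow p G} {A : Subgroup G}

theorem not_rankLE_two (S : Setup p P A) :
    ¬ Cfsg.RankLE 2 ↥(A ⊓ Subgroup.centralizer (A : Set G)) := by
  have hc := (basic S).1
  have h : A ⊓ Subgroup.centralizer (A : Set G) = A := by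
    refine inf_eq_left.2 ?_
    intro x hx
    rw [Subgroup.mem_centralizer_iff]
    intro y hy
    exact congrArg Subtype.val (hc.is_comm.comm ⟨y, hy⟩ ⟨x, hx⟩)
  rw [h]
  exact Rank.not_rankLE_of_not_pRankLE (Fact.out : p.Prime) S.hA3

theorem not_dvd_card (S : Setup p P A) {q : ℕ} [Fact q.Prime] (hqp : q ≠ p) :
    ¬ q ∣ Nat.card A := by
  intro h
  obtain ⟨n, hn⟩ := IsPGroup.iff_card.1 (basic S).2.1
  rw [hn] at h
  have h1 := (Fact.out : q.Prime).dvd_of_dvd_pow h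
  exact hqp ((Nat.prime_dvd_prime_iff_eq Fact.out Fact.out).1 h1)

/-- Transitivity of `O_{p'}(C_G(A))` on the maximal `A`-invariant `q`-subgroups. -/
theorem trans (S : Setup p P A) {q : ℕ} [Fact q.Prime] (hqp : q ≠ p) :
    ∀ Q₁ ∈ Cfsg.maxInvSubgroups ⊤ A {q}, ∀ Q₂ ∈ Cfsg.maxInvSubgroups ⊤ A {q},
      ∃ k ∈ Cfsg.piCoreOf (Cfsg.primesNotDvd (Nat.card A)) (Subgroup.centralizer (A : Set G)),
        Q₂ = Q₁.map (MulAut.conj k).toMonoidHom :=
  Cfsg.Agent.S1393.result S.hG A (basic S).2.2.2.2.2.2 (not_rankLE_two S) q Fact.out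
    (not_dvd_card S hqp)

/-- The consequences of Theorem 7.4 (S1395) for the Sylow subgroup `P`. -/
theorem seven_four (S : Setup p P A) {q : ℕ} [Fact q.Prime] (hqp : q ≠ p) :
    Cfsg.maxInvSubgroups ⊤ (P : Subgroup G) {q} ⊆ Cfsg.maxInvSubgroups ⊤ A {q} ∧
    ∀ Q ∈ Cfsg.maxInvSubgroups ⊤ (P : Subgroup G) {q},
      Subgroup.normalizer ((P : Subgroup G) : Set G) ≤
        Subgroup.centralizer ((P : Subgroup G) : Set G) ⊔
          (Subgroup.normalizer ((P : Subgroup G) : Set G) ⊓ Subgroup.normalizer (Q : Set G)) := by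
  have h := Cfsg.Agent.S1395.result S.hG A (basic S).2.2.2.2.2.2 q Fact.out (not_dvd_card S hqp)
    (P : Subgroup G) (MinSimpleBasic.sylow_ne_top S.hG P)
    (by
      intro r hr hrd
      obtain ⟨n, hn⟩ := IsPGroup.iff_card.1 P.isPGroup'
      rw [hn] at hrd
      have h1 : r = p := (Nat.prime_dvd_prime_iff_eq hr Fact.out).1 (hr.dvd_of_dvd_pow hrd)
      rw [h1]
      exact Rank.dvd_card_of_not_pRankLE S.hA3)
    (basic S).2.2.1
    (by
      have hn : (A.subgroupOf (P : Subgroup G)).Normal :=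
        (Subgroup.normal_subgroupOf_iff_le_normalizer (basic S).2.2.1).2 S.hA.2.1
      exact hn.isSubnormal)
    (trans S hqp)
  refine ⟨h.2.2.1, fun Q hQ => ?_⟩
  conv_lhs => rw [(h.2.2.2 Q hQ).2]
  exact sup_le_sup_right (piCoreOf_le _ _) _

/-- `Q` is a maximal `P`-invariant `q`-subgroup of rank at least three, in the maximal subgroup `M`, and
`q` is a "large" prime. -/
structure Good (_S : Setup p P A) (q : ℕ) (M Q : Subgroup G) : Prop where
  hqp : q ≠ p
  hM : IsCoatom M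
  hQ : Q ∈ Cfsg.maxInvSubgroups ⊤ (P : Subgroup G) {q}
  hQM : Q ≤ M
  hQ3 : ¬ Cfsg.PRankLE q 2 ↥Q
  hbig : ∃ M₁ : Subgroup G, IsCoatom M₁ ∧ ¬ Cfsg.PRankLE q 2 ↥(opOf q M₁)

theorem isPGroup_of_mem_inv {q : ℕ} [Fact q.Prime] {B Q H : Subgroup G}
    (hQ : Q ∈ Cfsg.invSubgroups H B {q}) : IsPGroup q Q :=
  (isPi_singleton_iff Fact.out Q).1 hQ.2.1

theorem Good.isPGroup {S : Setup p P A} {q : ℕ} [Fact q.Prime] {M Q : Subgroup G}
    (g : Good S q M Q) : IsPGroup q Q := isPGroup_of_mem_inv g.hQ.1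

theorem Good.unique {S : Setup p P A} {q : ℕ} [Fact q.Prime] {M Q : Subgroup G}
    (g : Good S q M Q) : Cfsg.InUniqueMaximal Q := by
  obtain ⟨M₁, hM₁, h1⟩ := g.hbig
  exact (unique_of_opOf S.hG hM₁ h1).1 Q g.isPGroup g.hQ3

theorem Good.ne_bot {S : Setup p P A} {q : ℕ} [Fact q.Prime] {M Q : Subgroup G}
    (g : Good S q M Q) : Q ≠ ⊥ := by
  rintro rfl
  apply g.hQ3
  intro B _ _
  have h1 : Nat.card B ≤ Nat.card (⊥ : Subgroup G) := Subgroup.card_le_card_group B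
  rw [Subgroup.card_bot] at h1
  exact h1.trans (Nat.one_le_pow _ _ (Fact.out : q.Prime).pos)

theorem Good.normalizer_le {S : Setup p P A} {q : ℕ} [Fact q.Prime] {M Q : Subgroup G}
    (g : Good S q M Q) : Subgroup.normalizer (Q : Set G) ≤ M :=
  MinSimple.normalizer_le_of_inUniqueMaximal S.hG g.unique g.ne_bot g.hM g.hQM

theorem Good.P_le_normalizer {S : Setup p P A} {q : ℕ} [Fact q.Prime] {M Q : Subgroup G}
    (g : Good S q M Q) : (P : Subgroup G) ≤ Subgroup.normalizer (Q : Set G) := g.hQ.1.2.2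

theorem Good.A_le {S : Setup p P A} {q : ℕ} [Fact q.Prime] {M Q : Subgroup G}
    (g : Good S q M Q) : A ≤ M :=
  ((basic S).2.2.1.trans g.P_le_normalizer).trans g.normalizer_le

theorem isPGroup_opOf (q : ℕ) [Fact q.Prime] (H : Subgroup G) : IsPGroup q (opOf q H) :=
  (Cfsg.Agent.Lib.Cores.pCore_isPGroup q).map _

theorem opOf_le (q : ℕ) (H : Subgroup G) : opOf q H ≤ H := Subgroup.map_subtype_le _

theorem le_normalizer_opOf (q : ℕ) (H : Subgroup G) :
    H ≤ Subgroup.normalizer (opOf q H : Set G) := by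
  have h : (Cfsg.pCore q ↥H).Normal := inferInstance
  intro x hx
  rw [Subgroup.mem_normalizer_iff]
  intro y
  constructor
  · rintro ⟨z, hz, rfl⟩
    exact ⟨⟨x, hx⟩ * z * ⟨x, hx⟩⁻¹, h.conj_mem z hz _, rfl⟩
  · rintro ⟨z, hz, hzy⟩
    refine ⟨⟨x, hx⟩⁻¹ * z * ⟨x, hx⟩, ?_, ?_⟩
    · have := h.conj_mem z hz (⟨x, hx⟩⁻¹)
      simpa using this
    · have hzy' : (z : G) = x * y * x⁻¹ := hzy
      change x⁻¹ * (z : G) * x = y
      rw [hzy']
      group

theorem isPi_singleton_of_isPGroup {q : ℕ} [Fact q.Prime] {Q : Subgroup G} (hQ : IsPGroup q Q) :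
    ∀ r : ℕ, r.Prime → r ∣ Nat.card Q → r ∈ ({q} : Set ℕ) := by
  intro r hr hrd
  obtain ⟨n, hn⟩ := IsPGroup.iff_card.1 hQ
  rw [hn] at hrd
  exact (Nat.prime_dvd_prime_iff_eq hr Fact.out).1 (hr.dvd_of_dvd_pow hrd)

theorem not_pRankLE_opOf {q : ℕ} [Fact q.Prime] {H : Subgroup G}
    (h : ¬ Cfsg.PRankLE q 2 ↥(Cfsg.fittingOf H)) : ¬ Cfsg.PRankLE q 2 ↥(opOf q H) := by
  obtain ⟨E, hEH, hE, hEc⟩ := Rank.exists_elemAb_of_not_pRankLE h
  refine Rank.not_pRankLE_of_elemAb (A := E) ?_ hE ?_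
  · exact Cfsg.Agent.Lib.BenderMaximal.le_map_pCore_of_le_fitting (Rank.elemAb_isPGroup hE) hEH
  · rw [hEc]
    exact Nat.pow_lt_pow_right (Fact.out : q.Prime).one_lt (by norm_num)

/-- A maximal subgroup over `A` with Fitting subgroup of large rank yields a good pair. -/
theorem exists_good (S : Setup p P A) {H : Subgroup G} (hH : IsCoatom H) (hAH : A ≤ H)
    (hF : ¬ Cfsg.RankLE 2 ↥(Cfsg.fittingOf H)) :
    ∃ (q : ℕ) (_ : Fact q.Prime) (M Q : Subgroup G), Good S q M Q ∧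
      (Subgroup.centralizer (A : Set G) ≤ H → M = H) := by
  obtain ⟨q, hq, hFq⟩ := Rank.not_rankLE hF
  have hqf : Fact q.Prime := ⟨hq⟩
  have hqp : q ≠ p := by
    rintro rfl
    exact S.hnU (Cfsg.Agent.S1401.result S.hG H hH q hFq A (basic S).2.1 (basic S).1 S.hA3)
  have hT3 : ¬ Cfsg.PRankLE q 2 ↥(opOf q H) := not_pRankLE_opOf hFq
  have hU := unique_of_opOf S.hG hH hT3
  have hTinv : opOf q H ∈ Cfsg.invSubgroups ⊤ A {q} :=
    ⟨le_top, isPi_singleton_of_isPGroup (isPGroup_opOf q H), hAH.trans (le_normalizer_opOf q H)⟩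
  obtain ⟨Q₀, hQ₀, hTQ₀⟩ := exists_maxInv_ge hTinv
  obtain ⟨Q, hQ, -⟩ := exists_maxInv_ge (bot_mem_inv (⊤ : Subgroup G) (P : Subgroup G) {q})
  have hQA := (seven_four S hqp).1 hQ
  obtain ⟨k, hk, hQk⟩ := trans S hqp Q₀ hQ₀ Q hQA
  have hkC : k ∈ Subgroup.centralizer (A : Set G) := piCoreOf_le _ _ hk
  have hTkQ : (opOf q H).map (MulAut.conj k).toMonoidHom ≤ Q := by
    rw [hQk]
    exact Subgroup.map_mono hTQ₀
  have hQ3 : ¬ Cfsg.PRankLE q 2 ↥Q := by
    intro h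
    apply hT3
    have h1 := Rank.pRankLE_mono hTkQ h
    exact (Rank.pRankLE_congr ((opOf q H).equivMapOfInjective _ (MulAut.conj k).injective)).2 h1
  have hQU : Cfsg.InUniqueMaximal Q := hU.1 Q (isPGroup_of_mem_inv hQ.1) hQ3
  obtain ⟨M, ⟨hM, hQM⟩, -⟩ := id hQU
  refine ⟨q, hqf, M, Q, ⟨hqp, hM, hQ, hQM, hQ3, H, hH, hT3⟩, fun hCH => ?_⟩
  have hkT : (opOf q H).map (MulAut.conj k).toMonoidHom = opOf q H :=
    mem_normalizer_iff_conj.1 (le_normalizer_opOf q H (hCH hkC))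
  rw [hkT] at hTkQ
  exact MinSimple.eq_of_inUniqueMaximal (hU.1 _ (isPGroup_opOf q H) hT3) hH (opOf_le q H) hM
    (hTkQ.trans hQM)

theorem not_isCyclic_of_card {B : Subgroup G} (hB : Cfsg.IsElementaryAbelian p B)
    (hlt : p < Nat.card B) : ¬ IsCyclic B := by
  intro hc
  have h1 : Monoid.exponent B ∣ p := by
    apply Monoid.exponent_dvd_of_forall_pow_eq_one
    intro a
    apply Subtype.ext
    simpa using hB.2 _ a.2
  rw [IsCyclic.exponent_eq_card] at h1
  exact absurd (Nat.le_of_dvd (Fact.out : p.Prime).pos h1) (by omega)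

/-- The maximal subgroup attached to a hyperplane. -/
theorem exists_other (S : Setup p P A) {q : ℕ} [Fact q.Prime] {M Q : Subgroup G}
    (g : Good S q M Q) {B : Subgroup G} (hBA : B ≤ A) (hB : Cfsg.IsElementaryAbelian p B)
    (hBc : p < Nat.card B) :
    ∃ H : Subgroup G, IsCoatom H ∧ H ≠ M ∧ Subgroup.centralizer (A : Set G) ≤ H ∧ A ≤ H ∧
      Subgroup.centralizer (B : Set G) ≤ H ∧
      (Cfsg.RankLE 2 ↥(Cfsg.fittingOf H) →
        A ≤ Subgroup.centralizer ((Q ⊓ H : Subgroup G) : Set G)) := by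
  have hBnc := not_isCyclic_of_card hB hBc
  have hnot : ¬ ∀ b ∈ B, b ≠ 1 → Subgroup.centralizer ({b} : Set G) ≤ M := by
    intro h
    have h1 := Cfsg.Agent.S1398.result S.hG M g.hM p B (hBA.trans g.A_le) hB hBnc (Or.inl h)
    exact S.hnU (MinSimple.inUniqueMaximal_mono h1 hBA
      (MinSimpleBasic.ne_top_of_isPGroup S.hG (basic S).2.1))
  push Not at hnot
  obtain ⟨b, hb, hb1, hbM⟩ := hnot
  have hbt : Subgroup.centralizer ({b} : Set G) ≠ ⊤ :=
    MinSimple.centralizer_ne_top S.hG (Set.mem_singleton b) hb1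
  obtain ⟨H, hH, hbH⟩ := MinSimple.exists_isCoatom_ge hbt
  have hBb : Subgroup.centralizer (B : Set G) ≤ Subgroup.centralizer ({b} : Set G) :=
    Subgroup.centralizer_le (Set.singleton_subset_iff.2 hb)
  have hAb : Subgroup.centralizer (A : Set G) ≤ Subgroup.centralizer ({b} : Set G) :=
    Subgroup.centralizer_le (Set.singleton_subset_iff.2 (hBA hb))
  have hHM : H ≠ M := by
    rintro rfl
    exact hbM hbH
  have hAC : A ≤ Subgroup.centralizer (A : Set G) := by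
    intro x hx
    rw [Subgroup.mem_centralizer_iff]
    intro y hy
    exact congrArg Subtype.val ((basic S).1.is_comm.comm ⟨y, hy⟩ ⟨x, hx⟩)
  refine ⟨H, hH, hHM, hAb.trans hbH, hAC.trans (hAb.trans hbH), hBb.trans hbH, fun hF => ?_⟩
  obtain ⟨M₁, hM₁, h1⟩ := g.hbig
  exact CaseTwo.centralizes_inf S g.hqp ((seven_four S g.hqp).1 g.hQ) g.hQ3
    (unique_of_opOf S.hG hM₁ h1).2 g.hM g.hQM hH hHM (hAb.trans hbH) hF

/-- `[P, N_G(P)] = [P, N_G(P) ∩ N_G(Q)]`. -/
theorem commutator_le (S : Setup p P A) {q : ℕ} [Fact q.Prime] {M Q : Subgroup G}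
    (g : Good S q M Q) :
    ⁅(P : Subgroup G), Subgroup.normalizer ((P : Subgroup G) : Set G)⁆ ≤
      ⁅Subgroup.normalizer ((P : Subgroup G) : Set G) ⊓ Subgroup.normalizer (Q : Set G),
        Subgroup.normalizer ((P : Subgroup G) : Set G) ⊓ Subgroup.normalizer (Q : Set G)⁆ := by
  rw [Subgroup.commutator_le]
  intro y hy x hx
  set N₄ := Subgroup.normalizer ((P : Subgroup G) : Set G) ⊓ Subgroup.normalizer (Q : Set G)
  have h1 := (seven_four S g.hqp).2 Q g.hQ hx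
  rw [sup_comm] at h1
  have h2 : N₄ ≤ Subgroup.normalizer (Subgroup.centralizer ((P : Subgroup G) : Set G) : Set G) :=
    inf_le_left.trans (normalizer_centralizer_ge _)
  obtain ⟨n, hn, c, hc, rfl⟩ := RankBasics.exists_mul_of_mem_sup h2 h1
  have h3 : c * y⁻¹ = y⁻¹ * c :=
    (Subgroup.mem_centralizer_iff.1 hc y⁻¹ (inv_mem hy)).symm
  have h4 : ⁅y, n * c⁆ = ⁅y, n⁆ := by
    rw [commutatorElement_def, commutatorElement_def]
    calc y * (n * c) * y⁻¹ * (n * c)⁻¹ = y * n * (c * y⁻¹) * c⁻¹ * n⁻¹ := by group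
      _ = y * n * (y⁻¹ * c) * c⁻¹ * n⁻¹ := by rw [h3]
      _ = y * n * y⁻¹ * n⁻¹ := by group
  rw [h4]
  exact Subgroup.commutator_mem_commutator ⟨Subgroup.le_normalizer hy, g.P_le_normalizer hy⟩ hn

/-- Case I. -/
theorem case_one (S : Setup p P A) {q : ℕ} [Fact q.Prime] {M Q : Subgroup G}
    (g : Good S q M Q) {H : Subgroup G} (hH : IsCoatom H) (hHM : H ≠ M)
    (hCH : Subgroup.centralizer (A : Set G) ≤ H) (hAH : A ≤ H)
    (hF : ¬ Cfsg.RankLE 2 ↥(Cfsg.fittingOf H)) :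
    ⁅(P : Subgroup G), Subgroup.normalizer ((P : Subgroup G) : Set G)⁆ ≤
      Subgroup.centralizer ((Q ⊓ H : Subgroup G) : Set G) := by
  obtain ⟨r, hr, H', R, gR, hH'⟩ := exists_good S hH hAH hF
  obtain rfl := hH' hCH
  have hCP : Subgroup.centralizer ((P : Subgroup G) : Set G) ≤ H' :=
    (Subgroup.centralizer_le (basic S).2.2.1).trans hCH
  have hNP : Subgroup.normalizer ((P : Subgroup G) : Set G) ≤ H' :=
    ((seven_four S gR.hqp).2 R gR.hQ).trans
      (sup_le hCP (inf_le_right.trans gR.normalizer_le))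
  set N₄ := Subgroup.normalizer ((P : Subgroup G) : Set G) ⊓ Subgroup.normalizer (Q : Set G)
    with hN₄
  have hN₄n : N₄ ≤ Subgroup.normalizer ((Q ⊓ H' : Subgroup G) : Set G) := by
    intro x hx
    rw [Subgroup.mem_normalizer_iff]
    intro y
    have h1 := Subgroup.mem_normalizer_iff.1 hx.2 y
    have h2 := Subgroup.mem_normalizer_iff.1 (Subgroup.le_normalizer (hNP hx.1)) y
    rw [Subgroup.mem_inf, Subgroup.mem_inf]
    exact and_congr h1 h2
  obtain ⟨M₁, hM₁, h1⟩ := g.hbig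
  have hr2 : Cfsg.PRankLE q 2 ↥(Q ⊓ H') := by
    by_contra h
    have h2 := (unique_of_opOf S.hG hM₁ h1).1 (Q ⊓ H') (g.isPGroup.to_le inf_le_left) h
    exact hHM (MinSimple.eq_of_inUniqueMaximal h2 g.hM (inf_le_left.trans g.hQM) hH inf_le_right)
  have hN₄t : N₄ ≠ ⊤ := fun h => hH.1 (top_le_iff.1 (h ▸ (inf_le_left.trans hNP)))
  have hq2 : q ≠ 2 := MinSimple.ne_two_of_dvd S.hG (Rank.dvd_card_of_not_pRankLE g.hQ3)
  refine RankTwoAct.le_centralizer (p := p) (q := q) g.hqp hq2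
    (MinSimple.odd_card_subgroup S.hG N₄) (g.isPGroup.to_le inf_le_left) hr2
    (MinSimple.isSolvable S.hG hN₄t) hN₄n (commutator_le S g) ?_
  refine P.isPGroup'.to_le ?_
  exact Subgroup.le_normalizer_iff_commutator_le_left.mp le_rfl

/-- An elementary abelian subgroup of order `p ^ 3` of `A`. -/
theorem exists_E (S : Setup p P A) :
    ∃ E : Subgroup G, E ≤ A ∧ Cfsg.IsElementaryAbelian p E ∧ Nat.card E = p ^ 3 :=
  Rank.exists_elemAb_of_not_pRankLE S.hA3

theorem lt_card_of_relIndex {E B : Subgroup G} (hEc : Nat.card E = p ^ 3) (hBE : B ≤ E)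
    (hB : B.relIndex E = p) : p < Nat.card B := by
  have h1 : Nat.card B * B.relIndex E = Nat.card E := by
    have h := Subgroup.relIndex_mul_relIndex (⊥ : Subgroup G) B E bot_le hBE
    rwa [Subgroup.relIndex_bot_left, Subgroup.relIndex_bot_left] at h
  have hp := (Fact.out : p.Prime)
  rw [hB, hEc] at h1
  have h2 : Nat.card B = p ^ 2 := by
    have h3 : Nat.card B * p = p ^ 2 * p := by rw [h1]; ring
    exact Nat.eq_of_mul_eq_mul_right hp.pos h3
  rw [h2]
  have := hp.two_le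
  nlinarith

theorem coprime_card (S : Setup p P A) {q : ℕ} [Fact q.Prime] {M Q : Subgroup G}
    (g : Good S q M Q) : (Nat.card Q).Coprime p := by
  obtain ⟨n, hn⟩ := IsPGroup.iff_card.1 g.isPGroup
  rw [hn]
  exact Nat.Coprime.pow_left n ((Nat.coprime_primes Fact.out Fact.out).2 g.hqp)

theorem E_ne_bot {E : Subgroup G} (hEc : Nat.card E = p ^ 3) : E ≠ ⊥ := by
  rintro rfl
  rw [Subgroup.card_bot] at hEc
  have hp := (Fact.out : p.Prime)
  have := Nat.one_lt_pow (n := 3) (by norm_num) hp.one_lt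
  omega

/-- The main lemma: `A ∩ [P, N_G(P)]` centralizes `Q`. -/
theorem centralizes (S : Setup p P A) {q : ℕ} [Fact q.Prime] {M Q : Subgroup G}
    (g : Good S q M Q) :
    Q ≤ Subgroup.centralizer
      ((A ⊓ ⁅(P : Subgroup G), Subgroup.normalizer ((P : Subgroup G) : Set G)⁆ : Subgroup G) :
        Set G) := by
  obtain ⟨E, hEA, hE, hEc⟩ := exists_E S
  have hEQ : E ≤ Subgroup.normalizer (Q : Set G) :=
    (hEA.trans (basic S).2.2.1).trans g.P_le_normalizer
  have hgen := Cfsg.Agent.Lib.CoprimeHyperplane.le_iSup_hyperplane E Q hE (E_ne_bot hEc)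
    (coprime_card S g) hEQ
  rw [hgen]
  refine iSup_le ?_
  rintro ⟨B, hBE, hBi⟩
  obtain ⟨H, hH, hHM, hCH, hAH, hBH, hcase⟩ := exists_other S g (hBE.trans hEA)
    (Rank.elemAb_mono hE hBE) (lt_card_of_relIndex hEc hBE hBi)
  have hle : Q ⊓ Subgroup.centralizer (B : Set G) ≤ Q ⊓ H := inf_le_inf_left _ hBH
  refine hle.trans ?_
  rw [Subgroup.le_centralizer_iff]
  by_cases hF : Cfsg.RankLE 2 ↥(Cfsg.fittingOf H)
  · exact inf_le_left.trans (hcase hF)
  · exact inf_le_right.trans (case_one S g hH hHM hCH hAH hF)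

/-- Step 1: in a counterexample every maximal subgroup over `A` has Fitting subgroup of rank at most
two. -/
theorem step1 (S : Setup p P A) :
    ∀ M : Subgroup G, IsCoatom M → A ≤ M → Cfsg.RankLE 2 ↥(Cfsg.fittingOf M) := by
  intro M₁ hM₁ hAM₁
  by_contra hF₁
  obtain ⟨q, hq, M, Q, g, -⟩ := exists_good S hM₁ hAM₁ hF₁
  obtain ⟨E, hEA, hE, hEc⟩ := exists_E S
  have hEQ : E ≤ Subgroup.normalizer (Q : Set G) :=
    (hEA.trans (basic S).2.2.1).trans g.P_le_normalizer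
  have hgen := Cfsg.Agent.Lib.CoprimeHyperplane.le_iSup_hyperplane E Q hE (E_ne_bot hEc)
    (coprime_card S g) hEQ
  -- some hyperplane leads to Case I
  have hex : ∃ H : Subgroup G, IsCoatom H ∧ H ≠ M ∧ Subgroup.centralizer (A : Set G) ≤ H ∧
      A ≤ H ∧ ¬ Cfsg.RankLE 2 ↥(Cfsg.fittingOf H) := by
    by_contra hcon
    push Not at hcon
    have hQA : Q ≤ Subgroup.centralizer (A : Set G) := by
      rw [hgen]
      refine iSup_le ?_
      rintro ⟨B, hBE, hBi⟩
      obtain ⟨H, hH, hHM, hCH, hAH, hBH, hcase⟩ := exists_other S g (hBE.trans hEA)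
        (Rank.elemAb_mono hE hBE) (lt_card_of_relIndex hEc hBE hBi)
      have hle : Q ⊓ Subgroup.centralizer (B : Set G) ≤ Q ⊓ H := inf_le_inf_left _ hBH
      refine hle.trans ?_
      rw [Subgroup.le_centralizer_iff]
      exact hcase (hcon H hH hHM hCH hAH)
    refine no_commute S g.unique le_rfl ?_ (Subgroup.le_centralizer_iff.1 hQA)
    intro hc
    have : IsCyclic E := Subgroup.isCyclic_of_le hEA
    refine not_isCyclic_of_card hE ?_ this
    rw [hEc]
    have := (Fact.out : p.Prime).one_lt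
    calc p = p ^ 1 := (pow_one p).symm
      _ < p ^ 3 := Nat.pow_lt_pow_right this (by norm_num)
  obtain ⟨H, hH, hHM, hCH, hAH, hF⟩ := hex
  obtain ⟨r, hr, H', R, gR, hH'⟩ := exists_good S hH hAH hF
  obtain rfl := hH' hCH
  have h1 := centralizes S g
  have h2 := centralizes S gR
  have hne := Burnside.inf_commutator_ne_bot S
  have hCt := MinSimple.centralizer_subgroup_ne_top S.hG hne
  have h3 := MinSimple.le_of_inUniqueMaximal gR.unique gR.hM gR.hQM h2 hCt
  exact hHM (MinSimple.eq_of_inUniqueMaximal g.unique g.hM g.hQM hH (h1.trans h3))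

end

end Cfsg.Agent.OddOrderLocal.BG95.StepOne
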