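import Mathlib
import Cfsg.Prelude.Def_OddOrderLocal
import Cfsg.Agent.Lib.Cores
import Cfsg.Agent.Lib.LocalCore
import Cfsg.Agent.Lib.BenderMaximal
import Cfsg.Agent.Lib.CoprimeCommutator
import Cfsg.Agent.Lib.CoprimeHyperplane
import Cfsg.Agent.Lib.NormalRankFour
import Cfsg.Agent.Transfer.PGroupNormal
import Cfsg.Agent.OddOrderLocal.Rank
import Cfsg.Agent.OddOrderLocal.RankBasics
import Cfsg.Agent.OddOrderLocal.MinSimple
import Cfsg.Agent.OddOrderLocal.MinSimpleBasic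
import Cfsg.Agent.OddOrderLocal.PiCoreOf
import Cfsg.Agent.OddOrderLocal.Transitivity
import Cfsg.Agent.OddOrderLocal.BG95.Basic
import Cfsg.Agent.OddOrderLocal.BG95.Setup
import Cfsg.Agent.S0126
import Cfsg.Agent.S1393
import Cfsg.Agent.S1451
import Cfsg.Agent.S1452

/-!
B & G Lemma 9.5, step 1, the case of a maximal subgroup `H` over `C_G(A)` with `F(H)` of rank at most two:
`A` centralizes `Q ⊓ H` for every maximal `A`-invariant `q`-subgroup `Q` of rank at least three.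
-/

set_option autoImplicit false

namespace Cfsg.Agent.OddOrderLocal.BG95.CaseTwo

open Cfsg.Agent.OddOrderLocal.BG95.Basic
open Cfsg.Agent.OddOrderLocal
open scoped commutatorElement

universe u

variable {G : Type u} [Group G] [Finite G]

/-- An `A`-invariant `q`-subgroup normalized by `C_G(A)` lies in every maximal `A`-invariant `q`-subgroup. -/
theorem le_of_maxInv {p : ℕ} [Fact p.Prime] {P : Sylow p G} {A : Subgroup G} (S : Setup p P A)
    {q : ℕ} [Fact q.Prime] (hqp : q ≠ p) {Q T : Subgroup G}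
    (hQ : Q ∈ Cfsg.maxInvSubgroups ⊤ A {q}) (hT : IsPGroup q T)
    (hAT : A ≤ Subgroup.normalizer (T : Set G))
    (hKT : Subgroup.centralizer (A : Set G) ≤ Subgroup.normalizer (T : Set G)) : T ≤ Q := by
  obtain ⟨hcomm, hpA, hAP, hA1, hp2, hpG, hTr⟩ := Setup.basic S
  have hqA : ¬ q ∣ Nat.card A := by
    intro h
    obtain ⟨n, hn⟩ := (IsPGroup.iff_card).mp hpA
    rw [hn] at h
    exact hqp ((Nat.prime_dvd_prime_iff_eq (Fact.out : q.Prime) (Fact.out : p.Prime)).mp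
      ((Fact.out : q.Prime).dvd_of_dvd_pow h))
  have hAC : A ≤ Subgroup.centralizer (A : Set G) := by
    intro x hx
    rw [Subgroup.mem_centralizer_iff]
    intro y hy
    exact congrArg Subtype.val (hcomm.is_comm.comm ⟨y, hy⟩ ⟨x, hx⟩)
  have hZ : ¬ Cfsg.RankLE 2 ↥(A ⊓ Subgroup.centralizer (A : Set G)) := by
    rw [inf_eq_left.mpr hAC]
    exact Rank.not_rankLE_of_not_pRankLE (Fact.out : p.Prime) S.hA3
  have hTinv : T ∈ Cfsg.invSubgroups ⊤ A {q} :=
    ⟨le_top, (PiCoreOf.isPi_singleton_iff (Fact.out : q.Prime) T).mpr hT, hAT⟩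
  obtain ⟨Q', hQ', hTQ'⟩ := Transitivity.exists_maxInv_ge hTinv
  obtain ⟨k, hk, hkQ⟩ := Cfsg.Agent.S1393.result S.hG A hTr hZ q (Fact.out : q.Prime) hqA Q' hQ' Q hQ
  have hkC : k ∈ Subgroup.centralizer (A : Set G) := PiCoreOf.piCoreOf_le _ _ hk
  have hkN : k ∈ Subgroup.normalizer (T : Set G) := hKT hkC
  have hTk : T.map (MulAut.conj k).toMonoidHom = T :=
    (MinSimpleBasic.mem_normalizer_iff_map_conj).mp hkN
  rw [hkQ, ← hTk]
  exact Subgroup.map_mono hTQ'

/-- For `q` odd, a normal elementary abelian subgroup of order `q ^ 2` of a `q`-subgroup of rank at least three is a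
uniqueness subgroup as soon as noncyclic `q`-subgroups with centralizers of rank at least three are. -/
theorem uniq_of_normal {q : ℕ} [Fact q.Prime] (hq2 : q ≠ 2) {Q E : Subgroup G} (hQ : IsPGroup q Q)
    (hQ3 : ¬ Cfsg.PRankLE q 2 ↥Q)
    (hUq : ∀ U : Subgroup G, IsPGroup q U → ¬ IsCyclic U →
      ¬ Cfsg.PRankLE q 2 ↥(Subgroup.centralizer (U : Set G)) → Cfsg.InUniqueMaximal U)
    (hEQ : E ≤ Q) (hE : Cfsg.IsElementaryAbelian q E) (hEc : Nat.card E = q ^ 2)
    (hQE : Q ≤ Subgroup.normalizer (E : Set G)) : Cfsg.InUniqueMaximal E := by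
  have hEn : (E.subgroupOf Q).Normal := Subgroup.normal_subgroupOf_of_le_normalizer hQE
  obtain ⟨B, hEB, hBn, hBC, hB3⟩ := Cfsg.Agent.S1452.result (R := ↥Q) q hq2 hQ hQ3 (E.subgroupOf Q)
    (RankBasics.isElementaryAbelian_subgroupOf Q hE)
    (by rw [RankBasics.card_subgroupOf_of_le hEQ, hEc])
  apply hUq E (Rank.elemAb_isPGroup hE)
  · intro hcyc
    -- a cyclic group of exponent `q` has order at most `q`
    obtain ⟨g, hg⟩ := hcyc.exists_generator
    have h1 : orderOf g = Nat.card E := orderOf_eq_card_of_forall_mem_zpowers hg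
    have h2 : orderOf g ∣ q := by
      apply orderOf_dvd_of_pow_eq_one
      exact Subtype.ext (by simpa using hE.2 g g.2)
    rw [h1, hEc] at h2
    have h3 := Nat.le_of_dvd (Fact.out : q.Prime).pos h2
    have h4 := (Fact.out : q.Prime).one_lt
    nlinarith
  · intro h
    apply hB3
    have h1 : B.map Q.subtype ≤ Subgroup.centralizer (E : Set G) := by
      rintro _ ⟨b, hb, rfl⟩
      rw [Subgroup.mem_centralizer_iff]
      intro e he
      have h2 : b ∈ Subgroup.centralizer (B : Set Q) := by rw [hBC]; exact hb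
      have h3 := Subgroup.mem_centralizer_iff.mp h2 ⟨e, hEQ he⟩
        (hEB (Subgroup.mem_subgroupOf.mpr he))
      exact congrArg Subtype.val h3
    exact (Rank.pRankLE_congr (Subgroup.equivMapOfInjective B Q.subtype Q.subtype_injective)).mpr
      (Rank.pRankLE_mono h1 h)

/-- The elements `y` of `Q` of order dividing `q` with `[y, Q] ≤ X`, where `X` is central of order `q`. -/
def yy (q : ℕ) [Fact q.Prime] (hq2 : q ≠ 2) (Q X : Subgroup G)
    (hXc : ∀ x ∈ X, ∀ g ∈ Q, g * x = x * g) (hXe : ∀ x ∈ X, x ^ q = 1) : Subgroup G where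
  carrier := {y | y ∈ Q ∧ y ^ q = 1 ∧ ∀ g ∈ Q, g * y * g⁻¹ * y⁻¹ ∈ X}
  one_mem' := by
    refine ⟨Q.one_mem, one_pow _, fun g _ => ?_⟩
    simp [X.one_mem]
  mul_mem' := by
    rintro y z ⟨hyQ, hyq, hy⟩ ⟨hzQ, hzq, hz⟩
    refine ⟨Q.mul_mem hyQ hzQ, ?_, fun g hg => ?_⟩
    · -- class two power formula
      set c := z⁻¹ * y⁻¹ * z * y with hc
      have hcX : c ∈ X := by
        have h1 := hy z⁻¹ (Q.inv_mem hzQ)
        -- z⁻¹ y z y⁻¹ ∈ X
        have h2 : y * (z⁻¹ * y * z⁻¹⁻¹ * y⁻¹)⁻¹ * y⁻¹ ∈ X := by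
          have h3 := hXc _ (X.inv_mem h1) y hyQ
          rw [h3]
          simpa using X.inv_mem h1
        have h4 := hz y⁻¹ (Q.inv_mem hyQ)
        -- y⁻¹ z y z⁻¹ ∈ X
        have h5 : z⁻¹ * (y⁻¹ * z * y⁻¹⁻¹ * z⁻¹) * z ∈ X := by
          have h6 := hXc _ h4 z⁻¹ (Q.inv_mem hzQ)
          rw [h6]
          simpa using h4
        have h7 : c = z⁻¹ * (y⁻¹ * z * y⁻¹⁻¹ * z⁻¹) * z := by rw [hc]; group
        rw [h7]; exact h5
      have h1 : z * y = y * z * c := by rw [hc]; group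
      have h2 : Commute c y := (hXc c hcX y hyQ).symm
      have h3 : Commute c z := (hXc c hcX z hzQ).symm
      rw [Cfsg.Agent.Transfer.PGroupNormal.mul_pow_prime (Fact.out : q.Prime) hq2 h1 h2 h3
        (hXe c hcX), hyq, hzq, one_mul]
    · have h1 := hy g hg
      have h2 := hz g hg
      have h3 : g * (y * z) * g⁻¹ * (y * z)⁻¹ =
          (g * y * g⁻¹) * (g * z * g⁻¹ * z⁻¹) * y⁻¹ := by group
      have h4 := hXc _ h2 y hyQ
      have h5 : (g * y * g⁻¹) * (g * z * g⁻¹ * z⁻¹) * y⁻¹ =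
          (g * y * g⁻¹ * y⁻¹) * (y * (g * z * g⁻¹ * z⁻¹)) * y⁻¹ := by group
      have h6 : (g * y * g⁻¹ * y⁻¹) * (y * (g * z * g⁻¹ * z⁻¹)) * y⁻¹ =
          (g * y * g⁻¹ * y⁻¹) * (g * z * g⁻¹ * z⁻¹) := by rw [h4]; group
      rw [h3, h5, h6]
      exact X.mul_mem h1 h2
  inv_mem' := by
    rintro y ⟨hyQ, hyq, hy⟩
    refine ⟨Q.inv_mem hyQ, by rw [inv_pow, hyq, inv_one], fun g hg => ?_⟩
    have h1 := X.inv_mem (hy g hg)
    have h2 := hXc _ h1 y⁻¹ (Q.inv_mem hyQ)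
    have h3 : g * y⁻¹ * g⁻¹ * y⁻¹⁻¹ = y⁻¹ * (g * y * g⁻¹ * y⁻¹)⁻¹ * y := by group
    rw [h3, h2]
    simpa using h1

omit [Finite G] in
theorem mem_yy {q : ℕ} [Fact q.Prime] {hq2 : q ≠ 2} {Q X : Subgroup G}
    {hXc : ∀ x ∈ X, ∀ g ∈ Q, g * x = x * g} {hXe : ∀ x ∈ X, x ^ q = 1} {y : G} :
    y ∈ yy q hq2 Q X hXc hXe ↔ y ∈ Q ∧ y ^ q = 1 ∧ ∀ g ∈ Q, g * y * g⁻¹ * y⁻¹ ∈ X := Iff.rfl

/-- Main construction: `X` central of order `q` in the `q`-group `Q`, `E₀ ≥ X` elementary abelian of order `q ^ 2` in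
`Q` with `[Q, E₀] ≤ X`, `A` an abelian `p`-group of rank at least three normalizing `Q` and centralizing `X`: some
noncyclic `B ≤ A` centralizes some normal elementary abelian subgroup of order `q ^ 2` of `Q`. -/
theorem exists_centralized {p q : ℕ} [Fact p.Prime] [Fact q.Prime] (hqp : q ≠ p) (hq2 : q ≠ 2)
    {Q X E₀ A : Subgroup G} (hQ : IsPGroup q Q) (hXQ : X ≤ Q) (hXc : ∀ x ∈ X, ∀ g ∈ Q, g * x = x * g)
    (hXe : ∀ x ∈ X, x ^ q = 1) (hXq : Nat.card X = q) (hE₀Q : E₀ ≤ Q) (hE₀ : Cfsg.IsElementaryAbelian q E₀)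
    (hE₀c : Nat.card E₀ = q ^ 2) (hE₀X : ∀ y ∈ E₀, ∀ g ∈ Q, g * y * g⁻¹ * y⁻¹ ∈ X)
    (hAQ : A ≤ Subgroup.normalizer (Q : Set G)) (hAX : A ≤ Subgroup.centralizer (X : Set G))
    (hA3 : ¬ Cfsg.PRankLE p 2 ↥A) :
    ∃ B E : Subgroup G, B ≤ A ∧ ¬ IsCyclic B ∧ E ≤ Q ∧ Cfsg.IsElementaryAbelian q E ∧
      Nat.card E = q ^ 2 ∧ Q ≤ Subgroup.normalizer (E : Set G) ∧
      B ≤ Subgroup.centralizer (E : Set G) := by
  obtain ⟨D, hDA, hD, hDc⟩ := Rank.exists_elemAb_of_not_pRankLE hA3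
  set Y := yy q hq2 Q X hXc hXe with hY
  have hYQ : Y ≤ Q := fun y hy => hy.1
  have hAXn : A ≤ Subgroup.normalizer (X : Set G) := hAX.trans (Subgroup.centralizer_le_normalizer _)
  have hDY : D ≤ Subgroup.normalizer (Y : Set G) := by
    intro a ha
    have key : ∀ a ∈ D, ∀ y ∈ Y, a * y * a⁻¹ ∈ Y := by
      intro a ha y hy
      have haQ := hAQ (hDA ha)
      obtain ⟨h1, h2, h3⟩ := hy
      refine ⟨(Subgroup.mem_normalizer_iff.mp haQ y).mp h1, ?_, fun g hg => ?_⟩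
      · rw [conj_pow, h2]; simp
      · have h4 : a⁻¹ * g * a ∈ Q := by
          have := (Subgroup.mem_normalizer_iff.mp (inv_mem haQ) g).mp hg
          simpa using this
        have h5 := h3 _ h4
        have h6 := (Subgroup.mem_normalizer_iff.mp (hAXn (hDA ha)) _).mp h5
        have h7 : g * (a * y * a⁻¹) * g⁻¹ * (a * y * a⁻¹)⁻¹ =
          a * (a⁻¹ * g * a * y * (a⁻¹ * g * a)⁻¹ * y⁻¹) * a⁻¹ := by group
        rw [h7]; exact h6
    rw [Subgroup.mem_normalizer_iff]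
    intro y
    refine ⟨key a ha y, fun h => ?_⟩
    have := key a⁻¹ (inv_mem ha) _ h
    simpa [mul_assoc] using this
  have hYp : ¬ p ∣ Nat.card Y := by
    intro h
    obtain ⟨n, hn⟩ := (IsPGroup.iff_card).mp (hQ.to_le hYQ)
    rw [hn] at h
    exact hqp ((Nat.prime_dvd_prime_iff_eq (Fact.out : p.Prime) (Fact.out : q.Prime)).mp
      ((Fact.out : p.Prime).dvd_of_dvd_pow h)).symm
  have hD1 : D ≠ ⊥ := by
    rintro rfl
    rw [Subgroup.card_bot] at hDc
    have := Nat.one_lt_pow (n := 2 + 1) (by norm_num) (Fact.out : p.Prime).one_lt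
    omega
  have hgen := Cfsg.Agent.Lib.CoprimeHyperplane.iSup_centralizer_hyperplane hD hD1 hYp hDY
  have hE₀Y : E₀ ≤ Y := fun y hy => ⟨hE₀Q hy, hE₀.2 y hy, fun g hg => hE₀X y hy g hg⟩
  have hnot : ¬ Y ≤ X := by
    intro h
    have h1 := Subgroup.card_le_of_le (hE₀Y.trans h)
    rw [hE₀c, hXq] at h1
    have h2 := (Fact.out : q.Prime).one_lt
    nlinarith
  obtain ⟨⟨B, hBD, hBi⟩, hB⟩ : ∃ B : {B : Subgroup G // B ≤ D ∧ B.relIndex D = p},
      ¬ Y ⊓ Subgroup.centralizer ((B : Subgroup G) : Set G) ≤ X := by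
    by_contra hcon
    push Not at hcon
    exact hnot (hgen ▸ iSup_le hcon)
  obtain ⟨y, ⟨hyY, hyB⟩, hyX⟩ := SetLike.not_le_iff_exists.mp hB
  obtain ⟨hyQ, hyq, hyg⟩ := hyY
  refine ⟨B, X ⊔ Subgroup.zpowers y, hBD.trans hDA, ?_, ?_, ?_, ?_, ?_, ?_⟩
  · -- `B` has order `p ^ 2` and exponent `p`
    intro hcyc
    obtain ⟨g, hg⟩ := hcyc.exists_generator
    have h1 : orderOf g = Nat.card B := orderOf_eq_card_of_forall_mem_zpowers hg
    have h2 : orderOf g ∣ p := by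
      apply orderOf_dvd_of_pow_eq_one
      exact Subtype.ext (by simpa using hD.2 g (hBD g.2))
    have h3 : Nat.card B * p = Nat.card D := by
      have := Subgroup.card_mul_index (B.subgroupOf D)
      rw [RankBasics.card_subgroupOf_of_le hBD] at this
      rw [← hBi]; exact this
    rw [h1] at h2
    have h4 := Nat.le_of_dvd (Fact.out : p.Prime).pos h2
    have h5 := (Fact.out : p.Prime).one_lt
    rw [hDc] at h3
    have h6 : p ^ (2 + 1) = p * p * p := by ring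
    rw [h6] at h3
    have h7 : Nat.card B = p * p := Nat.eq_of_mul_eq_mul_right (Fact.out : p.Prime).pos h3
    nlinarith
  · exact sup_le hXQ (Subgroup.zpowers_le.mpr hyQ)
  · apply RankBasics.isElementaryAbelian_sup (RankBasics.isElementaryAbelian_iff.mpr ⟨?_, hXe⟩)
      (Rank.elemAb_zpowers hyq)
    · rintro x hx z hz
      obtain ⟨k, rfl⟩ := Subgroup.mem_zpowers_iff.mp hz
      exact ((Commute.zpow_left (hXc x hx y hyQ : Commute y x) k)).symm
    · exact fun x hx z hz => hXc z hz x (hXQ hx)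
  · have hXn : Subgroup.zpowers y ≤ Subgroup.normalizer (X : Set G) := by
      rw [Subgroup.zpowers_le, Subgroup.mem_normalizer_iff]
      intro x
      constructor
      · intro hx
        rw [hXc x hx y hyQ]
        simpa using hx
      · intro hx
        have h1 := hXc _ hx y⁻¹ (Q.inv_mem hyQ)
        have h2 : x = y⁻¹ * (y * x * y⁻¹) * y := by group
        rw [h2, h1]
        simpa using hx
    have h1 : Nat.card ↥(X ⊔ Subgroup.zpowers y) ∣ q ^ 2 := by
      have h2 := PiCoreOf.card_sup_dvd_of_le_normalizer hXn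
      have h3 : orderOf y ∣ q := orderOf_dvd_of_pow_eq_one hyq
      rw [sup_comm, pow_two]
      refine h2.trans ?_
      rw [Nat.card_zpowers, hXq]
      exact mul_dvd_mul_right h3 q
    obtain ⟨i, hi, hic⟩ := (Nat.dvd_prime_pow (Fact.out : q.Prime)).mp h1
    have h4 : X < X ⊔ Subgroup.zpowers y := by
      refine lt_of_le_of_ne le_sup_left fun h => hyX ?_
      rw [h]
      exact (le_sup_right : Subgroup.zpowers y ≤ _) (Subgroup.mem_zpowers y)
    have h5 : q < Nat.card ↥(X ⊔ Subgroup.zpowers y) := by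
      rw [← hXq]
      by_contra h6
      exact h4.ne (Subgroup.eq_of_le_of_card_ge h4.le (not_lt.mp (by rwa [hXq] at h6 ⊢)))
    rw [hic] at h5 ⊢
    have h6 : 1 < i := by
      by_contra h7
      have h8 : i ≤ 1 := not_lt.mp h7
      have := Nat.pow_le_pow_right (Fact.out : q.Prime).pos h8
      rw [pow_one] at this
      omega
    have h9 : i = 2 := le_antisymm hi h6
    rw [h9]
  · have key : ∀ g ∈ Q, ∀ x ∈ X ⊔ Subgroup.zpowers y, g * x * g⁻¹ ∈ X ⊔ Subgroup.zpowers y := by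
      intro g hg x hx
      have h1 : X ⊔ Subgroup.zpowers y ≤
          (X ⊔ Subgroup.zpowers y).comap (MulAut.conj g).toMonoidHom := by
        refine sup_le ?_ ?_
        · intro z hz
          rw [Subgroup.mem_comap]
          change g * z * g⁻¹ ∈ _
          rw [hXc z hz g hg]
          simpa using (le_sup_left : X ≤ X ⊔ Subgroup.zpowers y) hz
        · rw [Subgroup.zpowers_le, Subgroup.mem_comap]
          change g * y * g⁻¹ ∈ _
          have h2 : g * y * g⁻¹ = (g * y * g⁻¹ * y⁻¹) * y := by group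
          rw [h2]
          exact mul_mem ((le_sup_left : X ≤ X ⊔ Subgroup.zpowers y) (hyg g hg))
            ((le_sup_right : Subgroup.zpowers y ≤ _) (Subgroup.mem_zpowers y))
      exact h1 hx
    intro g hg
    rw [Subgroup.mem_normalizer_iff]
    intro x
    refine ⟨key g hg x, fun h => ?_⟩
    have := key g⁻¹ (Q.inv_mem hg) _ h
    simpa [mul_assoc] using this
  · apply Cfsg.Agent.Lib.BenderMaximal.le_centralizer_symm
    refine sup_le ?_ (Subgroup.zpowers_le.mpr hyB)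
    exact Cfsg.Agent.Lib.BenderMaximal.le_centralizer_symm ((hBD.trans hDA).trans hAX)

omit [Finite G] in
/-- An elementary abelian group of order larger than `q` is not cyclic. -/
theorem not_isCyclic_of_elemAb {q : ℕ} [Fact q.Prime] {E : Subgroup G}
    (hE : Cfsg.IsElementaryAbelian q E) (h : q < Nat.card E) : ¬ IsCyclic E := by
  intro hcyc
  obtain ⟨g, hg⟩ := hcyc.exists_generator
  have h1 : orderOf g = Nat.card E := orderOf_eq_card_of_forall_mem_zpowers hg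
  have h2 : orderOf g ∣ q := by
    apply orderOf_dvd_of_pow_eq_one
    exact Subtype.ext (by simpa using hE.2 g g.2)
  rw [h1] at h2
  have h3 := Nat.le_of_dvd (Fact.out : q.Prime).pos h2
  omega

/-- The central elements of order dividing `q` of `Q`. -/
def omZ (q : ℕ) (Q : Subgroup G) : Subgroup G where
  carrier := {x | x ∈ Q ∧ (∀ g ∈ Q, g * x = x * g) ∧ x ^ q = 1}
  one_mem' := ⟨Q.one_mem, fun g _ => by simp, one_pow _⟩
  mul_mem' := by
    rintro x y ⟨hxQ, hx, hxq⟩ ⟨hyQ, hy, hyq⟩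
    refine ⟨Q.mul_mem hxQ hyQ, fun g hg => ?_, ?_⟩
    · rw [← mul_assoc, hx g hg, mul_assoc, hy g hg, mul_assoc]
    · have : Commute x y := hy x hxQ
      rw [this.mul_pow, hxq, hyq, one_mul]
  inv_mem' := by
    rintro x ⟨hxQ, hx, hxq⟩
    refine ⟨Q.inv_mem hxQ, fun g hg => ?_, by rw [inv_pow, hxq, inv_one]⟩
    have h := hx g hg
    calc g * x⁻¹ = x⁻¹ * (x * g) * x⁻¹ := by group
      _ = x⁻¹ * (g * x) * x⁻¹ := by rw [h]
      _ = x⁻¹ * g := by group

omit [Finite G] in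
theorem mem_omZ {q : ℕ} {Q : Subgroup G} {x : G} :
    x ∈ omZ q Q ↔ x ∈ Q ∧ (∀ g ∈ Q, g * x = x * g) ∧ x ^ q = 1 := Iff.rfl

omit [Finite G] in
theorem normalizer_le_normalizer_omZ (q : ℕ) (Q : Subgroup G) :
    Subgroup.normalizer (Q : Set G) ≤ Subgroup.normalizer (omZ q Q : Set G) := by
  have key : ∀ a ∈ Subgroup.normalizer (Q : Set G), ∀ x ∈ omZ q Q, a * x * a⁻¹ ∈ omZ q Q := by
    rintro a ha x ⟨hxQ, hx, hxq⟩
    refine ⟨(Subgroup.mem_normalizer_iff.mp ha x).mp hxQ, fun g hg => ?_, ?_⟩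
    · have h4 : a⁻¹ * g * a ∈ Q := by
        have := (Subgroup.mem_normalizer_iff.mp (inv_mem ha) g).mp hg
        simpa using this
      have h5 := hx _ h4
      calc g * (a * x * a⁻¹) = a * ((a⁻¹ * g * a) * x) * a⁻¹ := by group
        _ = a * (x * (a⁻¹ * g * a)) * a⁻¹ := by rw [h5]
        _ = a * x * a⁻¹ * g := by group
    · rw [conj_pow, hxq]; simp
  intro a ha
  rw [Subgroup.mem_normalizer_iff]
  intro x
  refine ⟨key a ha x, fun h => ?_⟩
  have := key a⁻¹ (inv_mem ha) _ h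
  simpa [mul_assoc] using this

omit [Finite G] in
theorem omZ_elemAb (q : ℕ) (Q : Subgroup G) : Cfsg.IsElementaryAbelian q (omZ q Q) :=
  RankBasics.isElementaryAbelian_iff.mpr
    ⟨fun x hx y hy => (hy.2.1 x hx.1), fun _ hx => hx.2.2⟩

omit [Finite G] in
theorem le_normalizer_of_le_omZ {q : ℕ} {Q E : Subgroup G} (h : E ≤ omZ q Q) :
    Q ≤ Subgroup.normalizer (E : Set G) := by
  refine le_trans ?_ (Subgroup.centralizer_le_normalizer _)
  intro g hg
  rw [Subgroup.mem_centralizer_iff]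
  intro x hx
  exact ((h hx).2.1 g hg).symm

/-- **Case II** of step 1. -/
theorem centralizes_inf {p : ℕ} [Fact p.Prime] {P : Sylow p G} {A : Subgroup G} (S : Setup p P A)
    {q : ℕ} [Fact q.Prime] (hqp : q ≠ p) {Q M H : Subgroup G}
    (hQ : Q ∈ Cfsg.maxInvSubgroups ⊤ A {q}) (hQ3 : ¬ Cfsg.PRankLE q 2 ↥Q)
    (hUq : ∀ U : Subgroup G, IsPGroup q U → ¬ IsCyclic U →
      ¬ Cfsg.PRankLE q 2 ↥(Subgroup.centralizer (U : Set G)) → Cfsg.InUniqueMaximal U)
    (hM : IsCoatom M) (hQM : Q ≤ M) (hH : IsCoatom H) (hHM : H ≠ M)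
    (hCH : Subgroup.centralizer (A : Set G) ≤ H) (hF : Cfsg.RankLE 2 ↥(Cfsg.fittingOf H)) :
    A ≤ Subgroup.centralizer ((Q ⊓ H : Subgroup G) : Set G) := by
  obtain ⟨hcomm, hpA, hAP, hA1, hp2, hpG, hTr⟩ := Setup.basic S
  have hQq : IsPGroup q Q :=
    (PiCoreOf.isPi_singleton_iff (Fact.out : q.Prime) Q).mp hQ.1.2.1
  have hAQ : A ≤ Subgroup.normalizer (Q : Set G) := hQ.1.2.2
  have hqQ : q ∣ Nat.card Q := Rank.dvd_card_of_not_pRankLE hQ3
  have hq2 : q ≠ 2 := MinSimple.ne_two_of_dvd S.hG hqQ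
  have hAC : A ≤ Subgroup.centralizer (A : Set G) := by
    intro x hx
    rw [Subgroup.mem_centralizer_iff]
    intro y hy
    exact congrArg Subtype.val (hcomm.is_comm.comm ⟨y, hy⟩ ⟨x, hx⟩)
  have hAH : A ≤ H := hAC.trans hCH
  have hsol : Group.IsSolvable H := MinSimple.isSolvable S.hG hH.1
  have hF' : Cfsg.RankLE 2 (Cfsg.fittingSubgroup H) :=
    (Rank.rankLE_congr (Subgroup.equivMapOfInjective (Cfsg.fittingSubgroup H) H.subtype
      H.subtype_injective)).mpr hF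
  obtain ⟨hnil, -, -⟩ := Cfsg.Agent.S1451.result (G := H) (MinSimple.odd_card_subgroup S.hG H)
    (Or.inr hF')
  have hAQH : A ≤ Subgroup.normalizer ((Q ⊓ H : Subgroup G) : Set G) :=
    le_trans (le_inf hAQ (hAH.trans Subgroup.le_normalizer))
      Subgroup.inf_normalizer_le_normalizer_inf
  have hDT : ⁅Q ⊓ H, A⁆ ≤ opOf q H := by
    have h1 : ⁅Q ⊓ H, A⁆ ≤ (Cfsg.fittingSubgroup H).map H.subtype := by
      have h2 : ⁅Q ⊓ H, A⁆ ≤ (commutator H).map H.subtype := by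
        rw [Subgroup.map_subtype_commutator]
        exact Subgroup.commutator_mono inf_le_right hAH
      exact h2.trans (Subgroup.map_mono
        (Cfsg.Agent.Lib.Cores.le_fittingSubgroup inferInstance hnil))
    have h3 : IsPGroup q ↥⁅Q ⊓ H, A⁆ :=
      hQq.to_le ((Cfsg.Agent.Lib.CoprimeCommutator.commutator_le_left hAQH).trans inf_le_left)
    exact Cfsg.Agent.Lib.BenderMaximal.le_map_pCore_of_le_fitting h3 h1
  by_cases hT1 : opOf q H = ⊥
  · rw [hT1, le_bot_iff, Subgroup.commutator_eq_bot_iff_le_centralizer] at hDT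
    exact Cfsg.Agent.Lib.BenderMaximal.le_centralizer_symm hDT
  exfalso
  have hTq : IsPGroup q (opOf q H) := Cfsg.Agent.Lib.LocalCore.isPGroup_map_pCore q H
  have hHT : H ≤ Subgroup.normalizer (opOf q H : Set G) :=
    Cfsg.Agent.Lib.LocalCore.le_normalizer_map_pCore q H
  have hTH : opOf q H ≤ H := Subgroup.map_subtype_le _
  have hTQ : opOf q H ≤ Q := le_of_maxInv S hqp hQ hTq (hAH.trans hHT) (hCH.trans hHT)
  have hNT : Subgroup.normalizer (opOf q H : Set G) = H :=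
    MinSimpleBasic.normalizer_eq_of_le_coatom S.hG hH hT1 hTH hHT
  have key8 : ∀ E : Subgroup G, E ≤ Q → Cfsg.IsElementaryAbelian q E → Nat.card E = q ^ 2 →
      Q ≤ Subgroup.normalizer (E : Set G) → ¬ E ≤ H := fun E hEQ hE hEc hQE hEH =>
    hHM (MinSimple.eq_of_inUniqueMaximal (uniq_of_normal hq2 hQq hQ3 hUq hEQ hE hEc hQE) hM
      (hEQ.trans hQM) hH hEH)
  -- `Ω₁(Z(Q))` lies in `H` and has order `q`
  have hΩH : omZ q Q ≤ H := by
    rw [← hNT]
    refine le_trans ?_ (Subgroup.centralizer_le_normalizer _)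
    intro x hx
    rw [Subgroup.mem_centralizer_iff]
    intro t ht
    exact hx.2.1 t (hTQ ht)
  have hΩQ : omZ q Q ≤ Q := fun x hx => hx.1
  have hΩq : Nat.card (omZ q Q) ≤ q := by
    by_contra hlt
    push Not at hlt
    obtain ⟨n, hn⟩ := (IsPGroup.iff_card).mp (hQq.to_le hΩQ)
    have h1 : 2 ≤ n := by
      by_contra h2
      have h3 : n ≤ 1 := by omega
      have := Nat.pow_le_pow_right (Fact.out : q.Prime).pos h3
      rw [pow_one, ← hn] at this
      omega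
    obtain ⟨E, hE⟩ := Sylow.exists_subgroup_card_pow_prime (G := omZ q Q) q (n := 2)
      (by rw [hn]; exact pow_dvd_pow q h1)
    have hEΩ : E.map (omZ q Q).subtype ≤ omZ q Q := Subgroup.map_subtype_le _
    exact key8 (E.map (omZ q Q).subtype) (hEΩ.trans hΩQ)
      (Rank.elemAb_mono (omZ_elemAb q Q) hEΩ) (by rw [Subgroup.card_subtype, hE])
      (le_normalizer_of_le_omZ hEΩ) (hEΩ.trans hΩH)
  -- a normal elementary abelian subgroup of order `q ^ 2` of `Q`
  have hQnc : ¬ IsCyclic Q := by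
    intro hc
    obtain ⟨E, hEQ, hE, hEc⟩ := Rank.exists_elemAb_of_not_pRankLE hQ3
    apply not_isCyclic_of_elemAb hE (by
      rw [hEc]
      calc q = q ^ 1 := (pow_one q).symm
        _ < q ^ (2 + 1) := Nat.pow_lt_pow_right (Fact.out : q.Prime).one_lt (by norm_num))
    exact isCyclic_of_injective (Subgroup.inclusion hEQ) (Subgroup.inclusion_injective hEQ)
  obtain ⟨E₀, hE₀n, hE₀e, hE₀c⟩ := Cfsg.Agent.S0126.result hq2 hQq hQnc
  have hE₀1 : E₀ ≠ ⊥ := by
    rintro rfl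
    rw [Subgroup.card_bot] at hE₀c
    have := Nat.one_lt_pow (n := 2) (by norm_num) (Fact.out : q.Prime).one_lt
    omega
  obtain ⟨z, hzE, hzc, hzo⟩ :=
    Cfsg.Agent.Transfer.PGroupNormal.exists_mem_inf_center_orderOf hQq E₀ hE₀1
  have hzΩ : (z : G) ∈ omZ q Q := by
    refine ⟨z.2, fun g hg => ?_, ?_⟩
    · exact congrArg Subtype.val (Subgroup.mem_center_iff.mp hzc ⟨g, hg⟩)
    · have := pow_orderOf_eq_one z
      rw [hzo] at this
      exact congrArg Subtype.val this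
  have hzo' : orderOf (z : G) = q := by rw [Subgroup.orderOf_coe]; exact hzo
  have hΩz : Subgroup.zpowers (z : G) = omZ q Q := by
    apply Subgroup.eq_of_le_of_card_ge (Subgroup.zpowers_le.mpr hzΩ)
    rw [Nat.card_zpowers, hzo']
    exact hΩq
  have hΩc : Nat.card (omZ q Q) = q := by rw [← hΩz, Nat.card_zpowers, hzo']
  have hE₀Ω : ∀ y ∈ E₀.map Q.subtype, ∀ g ∈ Q, g * y * g⁻¹ * y⁻¹ ∈ omZ q Q := by
    have hlt : ⁅E₀, (⊤ : Subgroup Q)⁆ < E₀ := by
      have : Group.IsNilpotent Q := hQq.isNilpotent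
      exact Cfsg.Agent.Lib.NormalElementary.commutator_top_lt E₀ hE₀1
    have hcard : Nat.card ↥⁅E₀, (⊤ : Subgroup Q)⁆ ≤ q := by
      have h1 := Subgroup.card_dvd_of_le hlt.le
      rw [hE₀c] at h1
      obtain ⟨i, hi, hic⟩ := (Nat.dvd_prime_pow (Fact.out : q.Prime)).mp h1
      have h2 : Nat.card ↥⁅E₀, (⊤ : Subgroup Q)⁆ ≠ q ^ 2 := by
        intro h3
        exact hlt.ne (Subgroup.eq_of_le_of_card_ge hlt.le (by rw [h3, hE₀c]))
      have h4 : i ≤ 1 := by
        by_contra h5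
        exact h2 (by rw [hic, le_antisymm hi (by omega : 2 ≤ i)])
      rw [hic]
      calc q ^ i ≤ q ^ 1 := Nat.pow_le_pow_right (Fact.out : q.Prime).pos h4
        _ = q := pow_one q
    have hcen := Cfsg.Agent.Lib.NormalRankFour.le_center_of_card_le hQq
      ⁅E₀, (⊤ : Subgroup Q)⁆ hcard
    rintro _ ⟨y, hy, rfl⟩ g hg
    have h1 : ⁅y, (⟨g, hg⟩ : Q)⁆ ∈ ⁅E₀, (⊤ : Subgroup Q)⁆ :=
      Subgroup.commutator_mem_commutator hy (Subgroup.mem_top _)
    have h2 := inv_mem h1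
    have h3 : g * (Q.subtype y) * g⁻¹ * (Q.subtype y)⁻¹ = ((⁅y, (⟨g, hg⟩ : Q)⁆⁻¹ : Q) : G) := by
      simp only [commutatorElement_def, mul_inv_rev, inv_inv, Subgroup.coe_mul, Subgroup.coe_inv,
        Subgroup.subtype_apply, mul_assoc]
    rw [h3]
    refine ⟨Subtype.mem _, fun g' hg' => ?_, ?_⟩
    · exact congrArg Subtype.val (Subgroup.mem_center_iff.mp (hcen h2) ⟨g', hg'⟩)
    · exact congrArg Subtype.val (hE₀e.2 _ (hlt.le h2))
  have hE₀Q : E₀.map Q.subtype ≤ Q := Subgroup.map_subtype_le _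
  have hE₀e' : Cfsg.IsElementaryAbelian q (E₀.map Q.subtype) := Rank.elemAb_map _ hE₀e
  have hE₀c' : Nat.card (E₀.map Q.subtype) = q ^ 2 := by rw [Subgroup.card_subtype, hE₀c]
  have hE₀n' : Q ≤ Subgroup.normalizer ((E₀.map Q.subtype : Subgroup G) : Set G) :=
    Cfsg.Agent.Lib.LocalCore.le_normalizer_map_subtype Q E₀ hE₀n
  have hΩT : ¬ omZ q Q ≤ opOf q H := by
    intro hle
    apply key8 _ hE₀Q hE₀e' hE₀c' hE₀n'
    rw [← hNT]
    have key : ∀ e ∈ E₀.map Q.subtype, ∀ t ∈ opOf q H, e * t * e⁻¹ ∈ opOf q H := by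
      intro e he t ht
      have h1 := hE₀Ω e he t (hTQ ht)
      have h2 : e * t * e⁻¹ = (t * e * t⁻¹ * e⁻¹)⁻¹ * t := by group
      rw [h2]
      exact mul_mem (inv_mem (hle h1)) ht
    intro e he
    rw [Subgroup.mem_normalizer_iff]
    intro t
    refine ⟨key e he t, fun h => ?_⟩
    have := key e⁻¹ (inv_mem he) _ h
    simpa [mul_assoc] using this
  have hΩinf : omZ q Q ⊓ opOf q H = ⊥ := by
    have h1 : Nat.card ↥(omZ q Q ⊓ opOf q H) ∣ q := by
      have := Subgroup.card_dvd_of_le (inf_le_left : omZ q Q ⊓ opOf q H ≤ omZ q Q)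
      rwa [hΩc] at this
    rcases (Nat.dvd_prime (Fact.out : q.Prime)).mp h1 with h2 | h2
    · exact Subgroup.card_eq_one.mp h2
    · exfalso
      apply hΩT
      have h3 : omZ q Q ⊓ opOf q H = omZ q Q :=
        Subgroup.eq_of_le_of_card_ge inf_le_left (by rw [h2, hΩc])
      exact inf_eq_left.mp h3
  have hAΩ : A ≤ Subgroup.centralizer (omZ q Q : Set G) := by
    apply Cfsg.Agent.Lib.BenderMaximal.le_centralizer_symm
    rw [← Subgroup.commutator_eq_bot_iff_le_centralizer, eq_bot_iff, ← hΩinf]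
    refine le_inf ?_ ?_
    · exact Cfsg.Agent.Lib.CoprimeCommutator.commutator_le_left
        (hAQ.trans (normalizer_le_normalizer_omZ q Q))
    · exact (Subgroup.commutator_mono (le_inf hΩQ hΩH) le_rfl).trans hDT
  obtain ⟨B, E, hBA, hB, hEQ, hE, hEc, hQE, hBE⟩ := exists_centralized hqp hq2 hQq hΩQ
    (fun x hx => hx.2.1) (fun x hx => hx.2.2) hΩc hE₀Q hE₀e' hE₀c' hE₀Ω hAQ hAΩ S.hA3
  exact Setup.no_commute S (uniq_of_normal hq2 hQq hQ3 hUq hEQ hE hEc hQE) hBA hB hBE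

end Cfsg.Agent.OddOrderLocal.BG95.CaseTwo
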