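import Mathlib
import Cfsg.Prelude.Def_OddOrderLocal
import Cfsg.Agent.OddOrderLocal.RankThreeTools
import Cfsg.Agent.OddOrderLocal.CyclicSub
import Cfsg.Agent.Lib.CoprimeHyperplane
import Cfsg.Agent.S0126
import Cfsg.Agent.S1443
import Cfsg.Agent.S1452
import Cfsg.Agent.S1453

/-!
B & G Lemma 9.5, piece T2: an elementary abelian `p`-group `B` acting on a `q`-group `Q` of rank at
least `3` and centralizing an element of order `q` of the centre of `Q` has a subgroup `B'` of index
at most `p` centralizing a noncyclic elementary abelian subgroup `U` of order `q ^ 2` whose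
centralizer in `Q` has rank at least `3`.
-/

set_option autoImplicit false

namespace Cfsg.Agent.OddOrderLocal.BG95.RankTwoCent

open Cfsg.Agent.OddOrderLocal.RankThreeTools

universe u

variable {G : Type u} [Group G]

/-- The normalizer of `Q` normalizes every characteristic subgroup of `Q`. -/
theorem normalizer_le_of_characteristic {Q : Subgroup G} (K : Subgroup Q) (hK : K.Characteristic) :
    Subgroup.normalizer (Q : Set G) ≤ Subgroup.normalizer (K.map Q.subtype : Set G) := by
  have key : ∀ g ∈ Subgroup.normalizer (Q : Set G), ∀ y ∈ K.map Q.subtype,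
      g * y * g⁻¹ ∈ K.map Q.subtype := by
    rintro g hg _ ⟨y, hy, rfl⟩
    have h1 := Subgroup.characteristic_iff_map_le.mp hK (Q.normalizerMonoidHom ⟨g, hg⟩)
    have h2 : (Q.normalizerMonoidHom ⟨g, hg⟩) y ∈ K := h1 ⟨y, hy, rfl⟩
    exact ⟨_, h2, rfl⟩
  intro g hg
  rw [Subgroup.mem_normalizer_iff]
  intro y
  refine ⟨key g hg y, fun hy => ?_⟩
  have h1 := key g⁻¹ (Subgroup.inv_mem _ hg) _ hy
  have h2 : g⁻¹ * (g * y * g⁻¹) * g⁻¹⁻¹ = y := by group
  rwa [h2] at h1

/-- `Ω₁(Z₂(Q))` is characteristic. -/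
theorem omega_characteristic (Q : Type u) [Group Q] (q : ℕ) :
    (Subgroup.closure {x : Q | x ∈ Subgroup.upperCentralSeries Q 2 ∧ x ^ q = 1}).Characteristic := by
  rw [Subgroup.characteristic_iff_map_le]
  intro φ
  rw [MonoidHom.map_closure, Subgroup.closure_le]
  rintro _ ⟨x, ⟨hx, hxq⟩, rfl⟩
  refine Subgroup.subset_closure ⟨?_, ?_⟩
  · have h1 := Subgroup.characteristic_iff_map_le.mp
      (inferInstance : (Subgroup.upperCentralSeries Q 2).Characteristic) φ
    exact h1 ⟨x, hx, rfl⟩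
  · have h2 : φ.toMonoidHom x ^ q = 1 := by rw [← map_pow, hxq, map_one]
    exact h2

/-- T2. -/
theorem exists_large_rank_two [Finite G] {p q : ℕ} [hpf : Fact p.Prime] [hqf : Fact q.Prime]
    (hpq : q ≠ p) (_hp2 : p ≠ 2) (hq2 : q ≠ 2)
    (Q B : Subgroup G) (hQ : IsPGroup q Q) (hQ3 : ¬ Cfsg.PRankLE q 2 ↥Q)
    (hB : Cfsg.IsElementaryAbelian p B) (hBn : ¬ IsCyclic B) (hBQ : B ≤ Subgroup.normalizer (Q : Set G))
    (z : G) (hz : z ∈ Q) (hzo : orderOf z = q) (hzc : Q ≤ Subgroup.centralizer ({z} : Set G))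
    (hBz : B ≤ Subgroup.centralizer ({z} : Set G)) :
    ∃ B' U : Subgroup G, B' ≤ B ∧ Nat.card B ≤ p * Nat.card B' ∧ U ≤ Q ∧
      B' ≤ Subgroup.centralizer (U : Set G) ∧ Cfsg.IsElementaryAbelian q U ∧ Nat.card U = q ^ 2 ∧
      ¬ Cfsg.PRankLE q 2 ↥(Q ⊓ Subgroup.centralizer (U : Set G)) := by
  classical
  have hp := hpf.out
  have hq := hqf.out
  have hB1 : B ≠ ⊥ := by
    rintro rfl
    exact hBn inferInstance
  have hBp : IsPGroup p B := isPGroup_of_pow hB.2
  have hcopQ : ∀ H : Subgroup G, IsPGroup q H → ¬ p ∣ Nat.card H := by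
    intro H hH hd
    obtain ⟨n, hn⟩ := IsPGroup.iff_card.mp hH
    rw [hn] at hd
    exact hpq ((Nat.prime_dvd_prime_iff_eq hp hq).mp (hp.dvd_of_dvd_pow hd)).symm
  have hcopB : (Nat.card B).Coprime q := by
    obtain ⟨n, hn⟩ := IsPGroup.iff_card.mp hBp
    rw [hn]
    exact Nat.Coprime.pow_left n ((Nat.coprime_primes hp hq).mpr hpq.symm)
  have hcardB : ∀ B' : Subgroup G, B' ≤ B → B'.relIndex B = p →
      Nat.card B ≤ p * Nat.card B' := by
    intro B' hB' hi
    have h1 := Subgroup.relIndex_mul_relIndex (⊥ : Subgroup G) B' B bot_le hB'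
    rw [Subgroup.relIndex_bot_left, Subgroup.relIndex_bot_left, hi] at h1
    rw [← h1, mul_comm]
  -- some hyperplane of `B` has a noncyclic centralizer in `Q`
  obtain ⟨B₁, hB₁, hB₁i, hB₁c⟩ : ∃ B₁ : Subgroup G, B₁ ≤ B ∧ B₁.relIndex B = p ∧
      ¬ IsCyclic ↥(Q ⊓ Subgroup.centralizer (B₁ : Set G)) := by
    by_contra hcon
    push Not at hcon
    have hgen := Cfsg.Agent.Lib.CoprimeHyperplane.iSup_centralizer_hyperplane hB hB1
      (hcopQ Q hQ) hBQ
    have hQc : ∀ B₁ : Subgroup G, B₁ ≤ B → B₁.relIndex B = p →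
        Q ⊓ Subgroup.centralizer (B₁ : Set G) ≤ Subgroup.centralizer (B : Set G) := by
      intro B₁ hB₁ hi
      set C := Q ⊓ Subgroup.centralizer (B₁ : Set G) with hC
      have hCcyc : IsCyclic C := hcon B₁ hB₁ hi
      have hzC : z ∈ C := by
        refine ⟨hz, Subgroup.mem_centralizer_iff.mpr fun b hb => ?_⟩
        exact (Subgroup.mem_centralizer_iff.mp (hBz (hB₁ hb)) z rfl).symm
      have hBC : B ≤ Subgroup.normalizer (C : Set G) := by
        have hBB : ∀ b ∈ B, ∀ x ∈ Subgroup.centralizer (B₁ : Set G),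
            b * x * b⁻¹ ∈ Subgroup.centralizer (B₁ : Set G) := by
          intro b hb x hx
          rw [Subgroup.mem_centralizer_iff]
          intro c hc
          have h1 : c * b = b * c := by
            have := hB.1
            exact setLike_mul_comm (hB₁ hc) hb
          have h2 : c * x = x * c := Subgroup.mem_centralizer_iff.mp hx c hc
          have h3 : b⁻¹ * c = c * b⁻¹ := by
            rw [inv_mul_eq_iff_eq_mul, ← mul_assoc, ← h1, mul_inv_cancel_right]
          calc c * (b * x * b⁻¹) = (c * b) * x * b⁻¹ := by group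
            _ = b * (c * x) * b⁻¹ := by rw [h1]; group
            _ = b * x * (c * b⁻¹) := by rw [h2]; group
            _ = b * x * b⁻¹ * c := by rw [← h3]; group
        intro b hb
        rw [Subgroup.mem_normalizer_iff]
        intro x
        constructor
        · rintro ⟨hxQ, hxc⟩
          exact ⟨(Subgroup.mem_normalizer_iff.mp (hBQ hb) x).mp hxQ, hBB b hb x hxc⟩
        · rintro ⟨hxQ, hxc⟩
          refine ⟨(Subgroup.mem_normalizer_iff.mp (hBQ hb) x).mpr hxQ, ?_⟩
          have h1 := hBB b⁻¹ (B.inv_mem hb) _ hxc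
          have h2 : b⁻¹ * (b * x * b⁻¹) * b⁻¹⁻¹ = x := by group
          rwa [h2] at h1
      have hCq : IsPGroup q C := hQ.to_le inf_le_left
      have h1 : B ≤ Subgroup.centralizer (C : Set G) := by
        refine Cfsg.Agent.S1443.result q hq2 C ⊥ B hCq bot_le ⟨inferInstance, ?_⟩ hBC hcopB ?_
        · intro a ha
          rw [Subgroup.mem_bot.mp ha, one_pow]
        · rintro x ⟨hxC, -⟩ hxo
          -- `x` is a power of `z`
          have hx : x ∈ Subgroup.zpowers z := by
            have h2 : Subgroup.zpowers x = Subgroup.zpowers z := by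
              apply Cfsg.Agent.OddOrderLocal.CyclicSub.eq_of_card_eq_of_le_cyclic hCcyc
              · rw [Subgroup.zpowers_le]; exact hxC
              · rw [Subgroup.zpowers_le]; exact hzC
              · rw [Nat.card_zpowers, Nat.card_zpowers, hxo, hzo]
            rw [← h2]
            exact Subgroup.mem_zpowers x
          obtain ⟨k, rfl⟩ := Subgroup.mem_zpowers_iff.mp hx
          intro b hb
          rw [Subgroup.mem_centralizer_iff]
          rintro y rfl
          have h2 : z * b = b * z := Subgroup.mem_centralizer_iff.mp (hBz hb) z rfl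
          exact (Commute.zpow_left h2 k)
      exact Subgroup.le_centralizer_iff.mp h1
    have hQB : Q ≤ Subgroup.centralizer (B : Set G) := by
      rw [← hgen]
      refine iSup_le fun B₁ => hQc B₁.1 B₁.2.1 B₁.2.2
    have hQ1 : Q ≠ ⊥ := by
      rintro rfl
      rw [Subgroup.mem_bot] at hz
      rw [hz, orderOf_one] at hzo
      exact hq.one_lt.ne hzo
    obtain ⟨B₁, hB₁, hi⟩ : ∃ B₁ : Subgroup G, B₁ ≤ B ∧ B₁.relIndex B = p := by
      by_contra hno
      have hemp : IsEmpty {B₁ : Subgroup G // B₁ ≤ B ∧ B₁.relIndex B = p} :=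
        ⟨fun B₁ => hno ⟨B₁.1, B₁.2⟩⟩
      rw [iSup_of_empty] at hgen
      exact hQ1 hgen.symm
    have h1 := hcon B₁ hB₁ hi
    have h2 : Q ⊓ Subgroup.centralizer (B₁ : Set G) = Q :=
      inf_eq_left.mpr (hQB.trans (Subgroup.centralizer_le hB₁))
    rw [h2] at h1
    obtain ⟨E, hEQ, hEc, hEq, hEcard⟩ := exists_of_not_pRankLE hQ3
    have hEcyc : IsCyclic E :=
      isCyclic_of_injective (Subgroup.inclusion hEQ) (Subgroup.inclusion_injective _)
    obtain ⟨g, hg⟩ := IsCyclic.exists_generator (α := E)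
    have h3 : orderOf g = Nat.card E := orderOf_eq_card_of_forall_mem_zpowers hg
    have h4 : orderOf g ∣ q :=
      orderOf_dvd_of_pow_eq_one (Subtype.ext (by simpa using hEq _ g.2))
    rw [h3] at h4
    have h5 := Nat.le_of_dvd hq.pos h4
    have := hq.one_lt
    nlinarith
  -- a noncyclic elementary abelian subgroup `U` of order `q ^ 2` of this centralizer
  obtain ⟨D, -, hDe, hDc⟩ := Cfsg.Agent.S0126.result hq2
    (hQ.to_le (inf_le_left : Q ⊓ Subgroup.centralizer (B₁ : Set G) ≤ Q)) hB₁c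
  obtain ⟨U, hUQ, hUB, hUe, hUc⟩ : ∃ U : Subgroup G, U ≤ Q ∧
      B₁ ≤ Subgroup.centralizer (U : Set G) ∧ Cfsg.IsElementaryAbelian q U ∧
      Nat.card U = q ^ 2 := by
    refine ⟨D.map (Q ⊓ Subgroup.centralizer (B₁ : Set G)).subtype, ?_, ?_, ⟨?_, ?_⟩, ?_⟩
    · exact (Subgroup.map_subtype_le D).trans inf_le_left
    · exact Subgroup.le_centralizer_iff.mp ((Subgroup.map_subtype_le D).trans inf_le_right)
    · have := hDe.1
      infer_instance
    · rintro _ ⟨a, ha, rfl⟩
      rw [← map_pow, hDe.2 a ha, map_one]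
    · rw [Subgroup.card_map_of_injective (Subgroup.subtype_injective _), hDc]
  by_cases hUr : Cfsg.PRankLE q 2 ↥(Q ⊓ Subgroup.centralizer (U : Set G))
  swap
  · exact ⟨B₁, U, hB₁, hcardB B₁ hB₁ hB₁i, hUQ, hUB, hUe, hUc, hUr⟩
  -- otherwise `U` is a maximal elementary abelian subgroup of `Q`
  have hUmax : ∀ V : Subgroup Q, Cfsg.IsElementaryAbelian q V → U.subgroupOf Q ≤ V →
      V = U.subgroupOf Q := by
    intro V hV hUV
    have hVc := hV.1
    have hUV' : U ≤ V.map Q.subtype := by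
      rw [← Subgroup.map_subgroupOf_eq_of_le hUQ]
      exact Subgroup.map_mono hUV
    have hVU : V.map Q.subtype ≤ Q ⊓ Subgroup.centralizer (U : Set G) := by
      refine le_inf (Subgroup.map_subtype_le V) ?_
      have h1 : V.map Q.subtype ≤ Subgroup.centralizer (V.map Q.subtype : Set G) :=
        Subgroup.le_centralizer_iff_isMulCommutative.mpr inferInstance
      exact h1.trans (Subgroup.centralizer_le hUV')
    have hVcard : Nat.card V ≤ q ^ 2 := by
      by_contra hlt
      push Not at hlt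
      refine not_pRankLE_of_le hVU inferInstance ?_ ?_ hUr
      · rintro _ ⟨a, ha, rfl⟩
        rw [← map_pow, hV.2 a ha, map_one]
      · rwa [Subgroup.card_map_of_injective Q.subtype_injective]
    refine (Subgroup.eq_of_le_of_card_ge hUV ?_).symm
    rw [Nat.card_congr (Subgroup.subgroupOfEquivOfLe hUQ).toEquiv, hUc]
    exact hVcard
  have hUe' : Cfsg.IsElementaryAbelian q (U.subgroupOf Q) := by
    have := hUe.1
    exact ⟨inferInstance, fun a ha => Subtype.ext (hUe.2 _ (Subgroup.mem_subgroupOf.mp ha))⟩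
  have hUc' : Nat.card (U.subgroupOf Q) = q ^ 2 := by
    rw [Nat.card_congr (Subgroup.subgroupOfEquivOfLe hUQ).toEquiv, hUc]
  obtain ⟨-, -, ⟨hWe, hWc⟩, -, -⟩ :=
    Cfsg.Agent.S1453.result q hq2 hQ hQ3 (U.subgroupOf Q) hUe' hUc' hUmax
  have hWchar := omega_characteristic Q q
  set W₀ : Subgroup Q :=
    Subgroup.closure {x : Q | x ∈ Subgroup.upperCentralSeries Q 2 ∧ x ^ q = 1} with hW₀
  have hWn : W₀.Normal := inferInstance
  obtain ⟨A₀, hWA₀, -, hA₀c, hA₀r⟩ := Cfsg.Agent.S1452.result q hq2 hQ hQ3 W₀ hWe hWc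
  have hA₀comm : IsMulCommutative A₀ :=
    Subgroup.le_centralizer_iff_isMulCommutative.mp (by rw [hA₀c])
  set W : Subgroup G := W₀.map Q.subtype with hW
  have hWcomm : IsMulCommutative W := by
    have := hWe.1
    infer_instance
  have hWq : ∀ a ∈ W, a ^ q = 1 := by
    rintro _ ⟨a, ha, rfl⟩
    rw [← map_pow, hWe.2 a ha, map_one]
  have hWcard : Nat.card W = q ^ 2 := by
    rw [hW, Subgroup.card_map_of_injective Q.subtype_injective, hWc]
  have hWQ : W ≤ Q := Subgroup.map_subtype_le W₀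
  have hBW : B ≤ Subgroup.normalizer (W : Set G) :=
    hBQ.trans (normalizer_le_of_characteristic W₀ hWchar)
  have hWr : ¬ Cfsg.PRankLE q 2 ↥(Q ⊓ Subgroup.centralizer (W : Set G)) := by
    obtain ⟨E, hEA, hEc, hEq, hEcard⟩ := exists_of_not_pRankLE hA₀r
    refine not_pRankLE_of_le (E := E.map Q.subtype) (le_inf (Subgroup.map_subtype_le E) ?_)
      inferInstance ?_ ?_
    · have h1 : A₀.map Q.subtype ≤ Subgroup.centralizer (A₀.map Q.subtype : Set G) :=
        Subgroup.le_centralizer_iff_isMulCommutative.mpr inferInstance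
      exact (Subgroup.map_mono hEA).trans
        (h1.trans (Subgroup.centralizer_le (Subgroup.map_mono hWA₀)))
    · rintro _ ⟨a, ha, rfl⟩
      rw [← map_pow, hEq a ha, map_one]
    · rwa [Subgroup.card_map_of_injective Q.subtype_injective]
  have hzW : z ∈ W := by
    refine ⟨⟨z, hz⟩, Subgroup.subset_closure ⟨?_, ?_⟩, rfl⟩
    · have h1 : (⟨z, hz⟩ : Q) ∈ Subgroup.center Q := by
        rw [Subgroup.mem_center_iff]
        intro x
        exact Subtype.ext (Subgroup.mem_centralizer_iff.mp (hzc x.2) z rfl).symm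
      rw [← Subgroup.upperCentralSeries_one] at h1
      exact Subgroup.upperCentralSeries_mono Q (by norm_num) h1
    · apply Subtype.ext
      rw [← hzo]
      exact pow_orderOf_eq_one z
  -- a hyperplane of `B` centralizes `W`
  have hgen := Cfsg.Agent.Lib.CoprimeHyperplane.iSup_centralizer_hyperplane hB hB1
    (hcopQ W (hQ.to_le hWQ)) hBW
  obtain ⟨B₂, hB₂, hB₂i, hB₂c⟩ : ∃ B₂ : Subgroup G, B₂ ≤ B ∧ B₂.relIndex B = p ∧
      ¬ W ⊓ Subgroup.centralizer (B₂ : Set G) ≤ Subgroup.zpowers z := by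
    by_contra hcon
    push Not at hcon
    have h1 : W ≤ Subgroup.zpowers z := by
      rw [← hgen]
      exact iSup_le fun B₂ => hcon B₂.1 B₂.2.1 B₂.2.2
    have h2 := Subgroup.card_le_of_le h1
    rw [hWcard, Nat.card_zpowers, hzo] at h2
    have := hq.one_lt
    nlinarith
  have hzB₂ : Subgroup.zpowers z ≤ W ⊓ Subgroup.centralizer (B₂ : Set G) := by
    rw [Subgroup.zpowers_le]
    refine ⟨hzW, Subgroup.mem_centralizer_iff.mpr fun b hb => ?_⟩
    exact (Subgroup.mem_centralizer_iff.mp (hBz (hB₂ hb)) z rfl).symm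
  have hWB₂ : W ⊓ Subgroup.centralizer (B₂ : Set G) = W := by
    have h1 : Nat.card ↥(W ⊓ Subgroup.centralizer (B₂ : Set G)) ∣ q ^ 2 := by
      rw [← hWcard]
      exact Subgroup.card_dvd_of_le inf_le_left
    obtain ⟨k, hk, hk'⟩ := (Nat.dvd_prime_pow hq).mp h1
    have h2 : q < Nat.card ↥(W ⊓ Subgroup.centralizer (B₂ : Set G)) := by
      have h3 : Nat.card (Subgroup.zpowers z) = q := by rw [Nat.card_zpowers, hzo]
      have h4 := Subgroup.card_le_of_le hzB₂
      rw [h3] at h4
      refine lt_of_le_of_ne h4 fun h5 => ?_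
      have h6 := Subgroup.eq_of_le_of_card_ge hzB₂ (by rw [← h5, h3])
      exact hB₂c h6.ge
    refine Subgroup.eq_of_le_of_card_ge inf_le_left ?_
    rw [hWcard, hk']
    refine Nat.pow_le_pow_right hq.pos ?_
    by_contra hlt
    have h3 : k ≤ 1 := by omega
    have h4 := Nat.pow_le_pow_right hq.pos h3
    rw [hk', pow_one] at *
    omega
  refine ⟨B₂, W, hB₂, hcardB B₂ hB₂ hB₂i, hWQ, ?_, ⟨hWcomm, hWq⟩, hWcard, hWr⟩
  exact Subgroup.le_centralizer_iff.mp (inf_eq_left.mp hWB₂)

end Cfsg.Agent.OddOrderLocal.BG95.RankTwoCent
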